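import Groth.Agent.L21.AffCd.Gen
import Groth.Agent.L28.ExtShriek.ConstIso
import Groth.Agent.L28.CurveCd.GenIso
import Groth.Agent.L27.PBC.ShriekAcyclic
import Groth.Agent.L27.ExtZero.ShriekProper
import Groth.Agent.L27.ExtZero.Recollement
import Groth.Agent.L19.Approx.Zmt
import Groth.Agent.L19.IntegralHom
import Groth.Agent.L21.RR.BirationalGenus
import Groth.Agent.S0686

/-!
# The atoms on curves
-/

set_option autoImplicit false
set_option linter.style.haveILetI false
set_option linter.unusedSectionVars false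
set_option backward.isDefEq.respectTransparency.types false

universe u

open CategoryTheory CategoryTheory.Limits AlgebraicGeometry Opposite

noncomputable section

namespace Groth.L21.AffCd

variable {k : Type u} [Field k] [IsSepClosed k]

/-- A morphism bijective on stalks at non-closed points is bijective on cohomology in degree at least two. -/
theorem bijective_H_of_generic {X : Scheme.{u}} (f : X ⟶ Spec (CommRingCat.of k)) [LocallyOfFiniteType f]
    [QuasiCompact f] {F G : EtCoh.Ab X} (φ : F ⟶ G)
    (hgen : ∀ (Ω : Type u) [Field Ω] [IsSepClosed Ω] (ξ : Spec (CommRingCat.of Ω) ⟶ X),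
      ¬ IsClosed ({ξ.base default} : Set X) → Function.Bijective ((EtCoh.stalk ξ).map φ)) (q : ℕ) :
    Function.Bijective ((EtCoh.HF X (q + 2)).map φ) :=
  (Groth.L28.CurveCd.bijective_of_acyclic φ
    (fun i => (Groth.L28.CurveCd.acyclic_ker_coker_of_nonclosed f φ hgen i).1)
    (fun i => (Groth.L28.CurveCd.acyclic_ker_coker_of_nonclosed f φ hgen i).2) q).1

variable {X : Scheme.{u}} (f : X ⟶ Spec (CommRingCat.of k)) [IsSeparated f] [LocallyOfFiniteType f] [QuasiCompact f]

include f in
/-- The atoms have no cohomology in degree two when the constants on finite curves over the curve have none. -/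
theorem subsingleton_atom (hdim : topologicalKrullDim X ≤ 1) (p : ℕ)
    (hC : ∀ (Y : Scheme.{u}) (π : Y ⟶ X) [IsFinite π],
      Subsingleton (EtCoh.H Y (EtCoh.const Y (ZMod p)) 2))
    (V : X.Etale) [IsAffine V.left] :
    Subsingleton (EtCoh.H X (EtPBC.extZeroConst V (ZMod p)) 2) := by
  haveI : CompactSpace ↥X := QuasiCompact.compactSpace_of_compactSpace f
  haveI : QuasiSeparatedSpace ↥X := quasiSeparatedSpace_of_quasiSeparated f
  let h : V.left ⟶ X := V.hom
  haveI : AlgebraicGeometry.Etale h := V.prop
  haveI : IsSeparated (h ≫ f) := inferInstance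
  haveI : IsSeparated h := IsSeparated.of_comp h f
  haveI : QuasiCompact h := quasiCompact_of_compactSpace h
  haveI := Groth.L27.ExtZero.jCont h
  obtain ⟨T, j, π, _, _, _, hjπ⟩ := Groth.L19.Approx.exists_openImmersion_finite h
  let Z := j.image
  let a : V.left ⟶ Z := j.toImage
  let ν : Z ⟶ X := j.imageι ≫ π
  haveI : IsOpenImmersion a := inferInstanceAs (IsOpenImmersion j.toImage)
  haveI : IsDominant a := inferInstanceAs (IsDominant j.toImage)
  haveI : IsFinite ν := inferInstanceAs (IsFinite (j.imageι ≫ π))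
  have haν : h = a ≫ ν := by
    rw [show a ≫ ν = (j.toImage ≫ j.imageι) ≫ π from (Category.assoc _ _ _).symm, Scheme.Hom.toImage_imageι, hjπ]
  haveI := Groth.L27.ExtZero.jCont a
  let g : Z ⟶ Spec (CommRingCat.of k) := ν ≫ f
  haveI : LocallyOfFiniteType g := inferInstanceAs (LocallyOfFiniteType (ν ≫ f))
  haveI : QuasiCompact g := inferInstanceAs (QuasiCompact (ν ≫ f))
  have hdimZ : topologicalKrullDim Z ≤ 1 := (Groth.L19.topologicalKrullDim_le_of_isIntegralHom ν).trans hdim
  haveI : IsLocallyNoetherian Z := LocallyOfFiniteType.isLocallyNoetherian g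
  haveI : CompactSpace ↥Z := QuasiCompact.compactSpace_of_compactSpace g
  haveI : AlgebraicGeometry.IsNoetherian Z := {}
  have h1 : Subsingleton (EtCoh.H Z ((EtShriek.extZero a).obj (EtCoh.const V.left (ZMod p))) 2) := by
    let C := EtCoh.const Z (ZMod p)
    let e : (EtShriek.restrAlong a).obj C ≅ EtCoh.const V.left (ZMod p) :=
      ((Groth.L27.ExtZero.pullRestr a).app C).symm ≪≫
        (EtCore.pullConstIso a).app (AddCommGrpCat.of (ULift.{u + 1} (ZMod p)))
    let φ : (EtShriek.extZero a).obj (EtCoh.const V.left (ZMod p)) ⟶ C :=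
      (EtShriek.extZero a).map e.inv ≫ (EtShriek.extZeroAdj a).counit.app C
    haveI : Subsingleton ↥((EtCoh.HF Z (0 + 2)).obj C) := hC Z ν
    refine (bijective_H_of_generic g φ (fun Ω _ _ ξ hξ => ?_) 0).1.subsingleton
    have hr : ξ.base default ∈ Set.range a.base := by
      have hd : Dense ((a.opensRange : Z.Opens) : Set Z) := by
        rw [Scheme.Hom.coe_opensRange]; exact a.denseRange
      have hm := Groth.L21.RR.mem_of_dense_of_not_isClosed hdimZ hd hξ
      rwa [← SetLike.mem_coe, Scheme.Hom.coe_opensRange] at hm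
    haveI := Groth.L27.ExtZero.isIso_stalk_counit_inside a C ξ hr
    have hi : IsIso ((EtCoh.stalk ξ).map φ) := by
      rw [show φ = _ ≫ _ from rfl, Functor.map_comp]
      infer_instance
    exact @ConcreteCategory.bijective_of_isIso _ _ _ _ _ _ _ _ _ hi
  obtain ⟨e⟩ := Groth.Agent.S0686.result a ν h haν
  exact Groth.L28.CurveCd.subsingleton_H_of_iso
    ((Groth.L28.ExtShriek.extZeroConstIso V (ZMod p)).symm ≪≫
      (Groth.L27.ExtZero.shriekIso h).app _ ≪≫ e.app _).symm 2
    (Groth.L27.PBC.subsingleton_H_push_finite ν _ 2 h1)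

end Groth.L21.AffCd
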