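import Groth.Agent.L21.AffCd.Atom
import Groth.Agent.L28.CurveCd.Biprod
import Groth.Agent.L28.Divisor.Sky
import Groth.Agent.L27.EtSite.PushFinite
import Groth.Agent.S10862
import Mathlib.RingTheory.IntegralClosure.IntegrallyClosed
import Mathlib.Data.ZMod.Basic

/-!
# The constants on an affine curve from the constants on normal affine curves
-/

set_option autoImplicit false
set_option linter.style.haveILetI false
set_option linter.unusedSectionVars false
set_option backward.isDefEq.respectTransparency.types false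

universe u

open CategoryTheory CategoryTheory.Limits AlgebraicGeometry Opposite

noncomputable section

namespace Groth.L21.AffCd

theorem bijective_stalk_map_of_iso {X Y : Scheme.{u}} (j : X ⟶ Y) {Ω : Type u} [Field Ω] [IsSepClosed Ω]
    (v : Spec (CommRingCat.of Ω) ⟶ X) {F G : EtCoh.Ab Y} (φ : F ⟶ G) :
    Function.Bijective ((EtCoh.stalk v).map ((EtCoh.pull j).map φ)) ↔
      Function.Bijective ((EtCoh.stalk (v ≫ j)).map φ) := by
  rw [← ConcreteCategory.isIso_iff_bijective, ← ConcreteCategory.isIso_iff_bijective]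
  exact NatIso.isIso_map_iff (Groth.L27.EtSite.stalkPullIso j v) φ

/-- Bijectivity on stalks depends only on the point. -/
theorem bijective_stalk_of_point {X : Scheme.{u}} {F G : EtCoh.Ab X} (φ : F ⟶ G)
    {Ω Ω' : Type u} [Field Ω] [IsSepClosed Ω] [Field Ω'] [IsSepClosed Ω'] (ξ : Spec (CommRingCat.of Ω) ⟶ X)
    (ξ' : Spec (CommRingCat.of Ω') ⟶ X) (hp : ξ'.base default = ξ.base default)
    (h : Function.Bijective ((EtCoh.stalk ξ').map φ)) : Function.Bijective ((EtCoh.stalk ξ).map φ) := by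
  obtain ⟨x, hx⟩ : ∃ x, ξ.base default = x := ⟨_, rfl⟩
  obtain ⟨v, rfl⟩ := Groth.L28.Sky.exists_factor ξ x hx
  obtain ⟨v', rfl⟩ := Groth.L28.Sky.exists_factor ξ' x (hp.trans hx)
  rw [← bijective_stalk_map_of_iso] at h ⊢
  have hsome : ∀ z : ↥(Spec (X.residueField x)), ∃ (Ω : Type u) (_ : Field Ω) (_ : IsSepClosed Ω)
      (η : Spec (CommRingCat.of Ω) ⟶ Spec (X.residueField x)),
      η.base default = z ∧ Function.Bijective ((EtCoh.stalk η).map ((EtCoh.pull (X.fromSpecResidueField x)).map φ)) :=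
    fun z => ⟨Ω', inferInstance, inferInstance, v', Subsingleton.elim _ _, h⟩
  let ψ := (EtCoh.pull (X.fromSpecResidueField x)).map φ
  haveI : Mono ψ := by
    haveI : Sheaf.IsLocallyInjective ψ := Groth.L27.EtSite.isLocallyInjective_of_some_stalks ψ.hom fun z => by
      obtain ⟨Ω, i, i', η, he, hb⟩ := hsome z
      exact ⟨Ω, i, i', η, he, hb.1⟩
    exact Sheaf.mono_of_isLocallyInjective ψ
  haveI : Epi ψ := (Sheaf.isLocallySurjective_iff_epi' (φ := ψ)).1
    (Groth.L27.EtSite.isLocallySurjective_of_some_stalks ψ.hom fun z => by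
      obtain ⟨Ω, i, i', η, he, hb⟩ := hsome z
      exact ⟨Ω, i, i', η, he, hb.2⟩)
  haveI := isIso_of_mono_of_epi ψ
  exact ConcreteCategory.bijective_of_isIso ((EtCoh.stalk v).map ψ)

/-- The restriction of constants along a morphism. -/
def constRes {Z Y : Scheme.{u}} (μ : Z ⟶ Y) (M : Type) [AddCommGroup M] :
    EtCoh.const Y M ⟶ (EtCoh.push μ).obj (EtCoh.const Z M) :=
  (EtCoh.pullPushAdj μ).unit.app (EtCoh.const Y M) ≫
    (EtCoh.push μ).map ((EtCore.pullConstIso μ).app (AddCommGrpCat.of (ULift.{u + 1} M))).hom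

/-- At geometric points with a unique lift the restriction of finite constants is bijective. -/
theorem bijective_stalk_constRes {Z Y : Scheme.{u}} (μ : Z ⟶ Y) [IsFinite μ] (M : Type) [AddCommGroup M] [Finite M]
    {Ω : Type u} [Field Ω] [IsAlgClosed Ω] (ξ : Spec (CommRingCat.of Ω) ⟶ Y)
    (hu : ∃! v : Spec (CommRingCat.of Ω) ⟶ Z, v ≫ μ = ξ) :
    Function.Bijective ((EtCoh.stalk ξ).map (constRes μ M)) := by
  obtain ⟨v, rfl, hv⟩ := hu
  let C := EtCoh.const Y M
  haveI : IsIso ((EtCoh.push μ).map ((EtCore.pullConstIso μ).app (AddCommGrpCat.of (ULift.{u + 1} M))).hom) :=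
    inferInstance
  have hinj : Function.Injective ((EtCoh.stalk (v ≫ μ)).map (constRes μ M)) := by
    have hm : Mono ((EtCoh.stalk (v ≫ μ)).map ((EtCoh.pullPushAdj μ).unit.app C)) := by
      haveI : Mono ((EtCoh.pull μ).map ((EtCoh.pullPushAdj μ).unit.app C)) := by
        haveI : Mono ((EtCoh.pull μ).map ((EtCoh.pullPushAdj μ).unit.app C) ≫
            (EtCoh.pullPushAdj μ).counit.app ((EtCoh.pull μ).obj C)) := by
          exact ((EtCoh.pullPushAdj μ).left_triangle_components C).symm ▸ inferInstanceAs (Mono (𝟙 _))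
        exact mono_of_mono _ ((EtCoh.pullPushAdj μ).counit.app ((EtCoh.pull μ).obj C))
      exact ((MorphismProperty.monomorphisms _).arrow_mk_iso_iff
        (((Functor.mapArrowFunctor _ _).mapIso (Groth.L27.EtSite.stalkPullIso μ v)).app
          (Arrow.mk ((EtCoh.pullPushAdj μ).unit.app C)))).1
        (show Mono ((EtCoh.stalk v).map ((EtCoh.pull μ).map ((EtCoh.pullPushAdj μ).unit.app C))) from
          (AddCommGrpCat.mono_iff_injective _).2 ((Groth.L27.EtSite.mono_iff_stalks _).1 inferInstance Ω v))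
    haveI := hm
    rw [constRes, Functor.map_comp]
    exact (AddCommGrpCat.mono_iff_injective _).1 inferInstance
  letI : Unique {w : Spec (CommRingCat.of Ω) ⟶ Z // w ≫ μ = v ≫ μ} :=
    { default := ⟨v, rfl⟩, uniq := fun w => Subtype.ext (hv w.1 w.2) }
  obtain ⟨e⟩ := Groth.L27.EtSite.PushFinite.nonempty_stalk_push_iso μ (v ≫ μ) (EtCoh.const Z M)
  let e₁ := ((e ≪≫ coproductUniqueIso _) ≪≫
    Groth.L28.Pts.sheafFiberConstIso _ (Groth.L28.Sky.inverted v) _).addCommGroupIsoToAddEquiv
  let e₀ : (EtCoh.stalk (v ≫ μ)).obj C ≃+ _ :=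
    (Groth.L28.Pts.sheafFiberConstIso _ (Groth.L28.Sky.inverted (v ≫ μ))
      (AddCommGrpCat.of (ULift.{u + 1} M))).addCommGroupIsoToAddEquiv
  haveI : Finite ↥((EtCoh.stalk (v ≫ μ)).obj C) := Finite.of_equiv _ e₀.toEquiv.symm
  haveI : Finite ↥((EtCoh.stalk (v ≫ μ)).obj ((EtCoh.push μ).obj (EtCoh.const Z M))) :=
    Finite.of_equiv _ e₁.toEquiv.symm
  exact (Nat.bijective_iff_injective_and_card _).2 ⟨hinj,
    (Nat.card_congr e₀.toEquiv).trans (Nat.card_congr e₁.toEquiv).symm⟩

section normalization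

variable {k : Type u} [Field k] {Y : Scheme.{u}} [IsAffine Y]

/-- The prime of a point of an affine scheme. -/
abbrev primeOf (x : Y) : Ideal Γ(Y, ⊤) := (Y.isoSpec.hom.base x).asIdeal

/-- The normalisation of the closure of a point. -/
abbrev normRing (x : Y) : Subalgebra (Γ(Y, ⊤) ⧸ primeOf x) (FractionRing (Γ(Y, ⊤) ⧸ primeOf x)) :=
  integralClosure _ _

/-- The normalisation mapping. -/
def normMap (x : Y) : Spec (CommRingCat.of ↥(normRing x)) ⟶ Y :=
  Spec.map (CommRingCat.ofHom ((algebraMap (Γ(Y, ⊤) ⧸ primeOf x) ↥(normRing x)).comp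
    (Ideal.Quotient.mk (primeOf x)))) ≫ Y.isoSpec.inv

theorem range_normMap (x : Y) : Set.range (normMap x).base ⊆ closure ({x} : Set Y) := by
  rintro y ⟨z, rfl⟩
  refine specializes_iff_mem_closure.1 ?_
  let q : PrimeSpectrum Γ(Y, ⊤) := PrimeSpectrum.comap ((algebraMap (Γ(Y, ⊤) ⧸ primeOf x) ↥(normRing x)).comp
    (Ideal.Quotient.mk (primeOf x))) z
  let q₀ : PrimeSpectrum Γ(Y, ⊤) := Y.isoSpec.hom.base x
  have hq : q₀ ≤ q := show q₀.asIdeal ≤ q.asIdeal from fun a ha => by
    show algebraMap (Γ(Y, ⊤) ⧸ primeOf x) ↥(normRing x) (Ideal.Quotient.mk _ a) ∈ z.asIdeal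
    rw [Ideal.Quotient.eq_zero_iff_mem.2 ha, map_zero]
    exact zero_mem _
  have h := ((PrimeSpectrum.le_iff_specializes _ _).1 hq).map Y.isoSpec.inv.base.hom.continuous
  have e : Y.isoSpec.inv.base q₀ = x := (Scheme.Hom.comp_apply Y.isoSpec.hom Y.isoSpec.inv x).symm.trans (by
    rw [Iso.hom_inv_id]; rfl)
  have h' : Y.isoSpec.inv.base q₀ ⤳ (normMap x).base z := h
  rwa [e] at h'

variable (g : Y ⟶ Spec (CommRingCat.of k)) [LocallyOfFiniteType g]

include g in
theorem isFinite_normMap (x : Y) : IsFinite (normMap x) := by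
  obtain ⟨φ, hφ⟩ : ∃ φ, Spec.map φ = Y.isoSpec.inv ≫ g := ⟨Spec.preimage _, Spec.map_preimage _⟩
  letI := φ.hom.toAlgebra
  haveI : Algebra.FiniteType k Γ(Y, ⊤) := by
    have : φ.hom.FiniteType := (HasRingHomProperty.Spec_iff (P := @LocallyOfFiniteType)).1
      (by rw [hφ]; infer_instance)
    exact this
  haveI : Algebra.FiniteType k (Γ(Y, ⊤) ⧸ primeOf x) := Algebra.FiniteType.trans (S := Γ(Y, ⊤))
    inferInstance inferInstance
  haveI : Module.Finite (Γ(Y, ⊤) ⧸ primeOf x) ↥(normRing x) :=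
    Groth.Agent.S10862.result k _ (FractionRing (Γ(Y, ⊤) ⧸ primeOf x)) (FractionRing (Γ(Y, ⊤) ⧸ primeOf x))
  haveI : IsFinite (Spec.map (CommRingCat.ofHom ((algebraMap (Γ(Y, ⊤) ⧸ primeOf x) ↥(normRing x)).comp
      (Ideal.Quotient.mk (primeOf x))))) :=
    (IsFinite.SpecMap_iff _).2 (RingHom.Finite.comp (RingHom.finite_algebraMap.2 inferInstance)
      (RingHom.Finite.of_surjective _ Ideal.Quotient.mk_surjective))
  exact inferInstanceAs (IsFinite (_ ≫ Y.isoSpec.inv))

theorem existsUnique_lift (x : Y) {Ω : Type u} [Field Ω] (ξ : Spec (CommRingCat.of Ω) ⟶ Y)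
    (hξ : ξ.base default = x) : ∃! v, v ≫ normMap x = ξ := by
  let A := Γ(Y, ⊤)
  let P := primeOf x
  obtain ⟨a, ha⟩ : ∃ a : A ⟶ CommRingCat.of Ω, Spec.map a = ξ ≫ Y.isoSpec.hom :=
    ⟨Spec.preimage _, Spec.map_preimage _⟩
  have hker : RingHom.ker a.hom = P := by
    have h : (Spec.map a).base (default : Spec (CommRingCat.of Ω)) = Y.isoSpec.hom.base x := by
      rw [ha, Scheme.Hom.comp_apply]; exact congrArg _ hξ
    have h2 : RingHom.ker a.hom = ((Spec.map a).base (default : Spec (CommRingCat.of Ω))).asIdeal := by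
      rw [Ideal.eq_bot_of_prime (default : Spec (CommRingCat.of Ω)).asIdeal |> fun e =>
        show ((Spec.map a).base (default : Spec (CommRingCat.of Ω))).asIdeal = Ideal.comap a.hom ⊥ from
          (congrArg (Ideal.comap a.hom) e)]
      rfl
    exact h2.trans (congrArg PrimeSpectrum.asIdeal h)
  let ā : A ⧸ P →+* Ω := Ideal.Quotient.lift P a.hom fun r hr => RingHom.mem_ker.1 (hker ▸ hr)
  have hinj : Function.Injective ā := RingHom.lift_injective_of_ker_le_ideal P _ hker.le
  let b : FractionRing (A ⧸ P) →+* Ω := IsFractionRing.lift hinj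
  refine ⟨Spec.map (CommRingCat.ofHom (b.comp (algebraMap ↥(normRing x) (FractionRing (A ⧸ P))))), ?_, ?_⟩
  · beta_reduce
    rw [normMap, ← Category.assoc, Iso.comp_inv_eq, ← ha, ← Spec.map_comp]
    congr 1
    refine CommRingCat.hom_ext (RingHom.ext fun r => ?_)
    show b (algebraMap ↥(normRing x) (FractionRing (A ⧸ P)) (algebraMap (A ⧸ P) ↥(normRing x) (Ideal.Quotient.mk P r))) = _
    rw [← IsScalarTower.algebraMap_apply]
    exact IsFractionRing.lift_algebraMap hinj _
  · intro v hv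
    obtain ⟨c, rfl⟩ : ∃ c, Spec.map c = v := ⟨Spec.preimage _, Spec.map_preimage _⟩
    rw [normMap, ← Category.assoc, Iso.comp_inv_eq, ← ha, ← Spec.map_comp] at hv
    have hc : ∀ r, c.hom (algebraMap (A ⧸ P) ↥(normRing x) r) = ā r := fun r => by
      obtain ⟨r, rfl⟩ := Ideal.Quotient.mk_surjective r
      exact congrArg (fun k => k.hom r) (Spec.map_injective hv)
    congr 1
    refine CommRingCat.hom_ext (RingHom.ext fun y => ?_)
    show c.hom y = b (algebraMap ↥(normRing x) (FractionRing (A ⧸ P)) y)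
    obtain ⟨r, s, hs, hy⟩ := IsFractionRing.div_surjective (A := A ⧸ P) (algebraMap ↥(normRing x) (FractionRing (A ⧸ P)) y)
    have hs0 : s ≠ 0 := nonZeroDivisors.ne_zero hs
    have hys : y * algebraMap (A ⧸ P) ↥(normRing x) s = algebraMap (A ⧸ P) ↥(normRing x) r := by
      refine Subtype.ext ?_
      show algebraMap ↥(normRing x) (FractionRing (A ⧸ P)) y * algebraMap (A ⧸ P) (FractionRing (A ⧸ P)) s =
        algebraMap (A ⧸ P) (FractionRing (A ⧸ P)) r
      rw [← hy, div_mul_cancel₀]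
      exact fun h => hs0 (IsFractionRing.injective (A ⧸ P) (FractionRing (A ⧸ P)) (h.trans (map_zero _).symm))
    have hās : ā s ≠ 0 := fun h => hs0 (hinj (h.trans (map_zero _).symm))
    rw [← hy, map_div₀, IsFractionRing.lift_algebraMap, IsFractionRing.lift_algebraMap, eq_div_iff hās,
      ← hc s, ← hc r, ← hys, map_mul]

end normalization

variable {k : Type u} [Field k] [IsSepClosed k]

/-- Constants on affine curves from constants on normal affine curves. -/
theorem subsingleton_const_of_normal (M : Type) [AddCommGroup M] [Finite M]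
    (hN : ∀ (B : Type u) [CommRing B] [IsDomain B] [IsIntegrallyClosed B]
      (h : Spec (CommRingCat.of B) ⟶ Spec (CommRingCat.of k)) [LocallyOfFiniteType h],
      topologicalKrullDim ↥(Spec (CommRingCat.of B)) ≤ 1 →
        Subsingleton (EtCoh.H (Spec (CommRingCat.of B)) (EtCoh.const _ M) 2))
    {Y : Scheme.{u}} [IsAffine Y] (g : Y ⟶ Spec (CommRingCat.of k)) [LocallyOfFiniteType g]
    (hdim : topologicalKrullDim Y ≤ 1) : Subsingleton (EtCoh.H Y (EtCoh.const Y M) 2) := by
  haveI : IsLocallyNoetherian Y := LocallyOfFiniteType.isLocallyNoetherian g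
  haveI := Groth.L28.CurveCd.finite_not_closed (X := Y) hdim
  haveI := Fintype.ofFinite {x : Y // ¬ IsClosed ({x} : Set Y)}
  classical
  haveI : ∀ x : Y, IsFinite (normMap x) := isFinite_normMap g
  let G := fun x : {x : Y // ¬ IsClosed ({x} : Set Y)} =>
    (EtCoh.push (normMap x.1)).obj (EtCoh.const (Spec (CommRingCat.of ↥(normRing x.1))) M)
  haveI : HasBiproduct G := HasBiproductsOfShape.has_biproduct _
  let φ : EtCoh.const Y M ⟶ ⨁ G := biproduct.lift fun x => constRes (normMap x.1) M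
  have hb := bijective_H_of_generic g φ (fun Ω _ _ ξ hc => ?_) 0
  · refine subsingleton_of_forall_eq (α := ↥((EtCoh.HF Y (0 + 2)).obj (EtCoh.const Y M))) 0 fun z =>
      hb.1 (Eq.trans ?_ (map_zero _).symm)
    refine Groth.L28.CurveCd.eq_zero_of_π G 2 _ fun x => ?_
    have : Subsingleton (EtCoh.H Y (G x) 2) := by
      haveI : LocallyOfFiniteType (normMap x.1 ≫ g) := inferInstance
      haveI : IsIntegrallyClosed ↥(normRing x.1) :=
        integralClosure.isIntegrallyClosedOfFiniteExtension (FractionRing (Γ(Y, ⊤) ⧸ primeOf x.1))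
      exact Groth.L27.PBC.subsingleton_H_push_finite (normMap x.1) _ 2
        (hN ↥(normRing x.1) (normMap x.1 ≫ g)
          ((Groth.L19.topologicalKrullDim_le_of_isIntegralHom (normMap x.1)).trans hdim))
    exact this.elim _ _
  · refine Groth.L28.CurveCd.bijective_stalk_lift G _ ξ ⟨_, hc⟩ (fun x hne => ?_) ?_
    · refine Groth.L28.CurveCd.isZero_stalk_push_closure _ _ ξ fun hm => ?_
      exact Groth.L28.CurveCd.not_specializes hdim hc (fun e => hne (Subtype.ext e.symm))
        (closure_minimal (range_normMap x.1) isClosed_closure hm)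
    · let ξ' : Spec (CommRingCat.of (AlgebraicClosure Ω)) ⟶ Y :=
        Spec.map (CommRingCat.ofHom (algebraMap Ω (AlgebraicClosure Ω))) ≫ ξ
      have hp : ξ'.base default = ξ.base default :=
        (Scheme.Hom.comp_apply _ _ _).trans (congrArg ξ.base (Subsingleton.elim _ _))
      exact bijective_stalk_of_point _ ξ ξ' hp
        (bijective_stalk_constRes (normMap _) M ξ' (existsUnique_lift _ ξ' hp))

end Groth.L21.AffCd
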