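import Groth.Agent.L28.FieldCd.Dev
import Groth.Agent.L28.ExtShriek.IndConstr
import Groth.Agent.L28.ExtShriek.Killed
import Groth.Agent.L28.EtTrace.Galois
import Groth.Agent.L27.PBC.ModSquare
import Groth.Agent.L27.CompTransfer.Torsion

/-!
# Vanishing of right exact cohomology on torsion sheaves from that of the atoms
-/

set_option autoImplicit false
set_option linter.style.haveILetI false
set_option linter.unusedSectionVars false
set_option backward.isDefEq.respectTransparency.types false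

universe u

open CategoryTheory CategoryTheory.Limits AlgebraicGeometry Opposite CategoryTheory.Abelian
open Groth.L28.FieldCd (Dev exists_dev_eq_zero)

noncomputable section

namespace Groth.L21.AffCd

variable (X : Scheme.{u}) (P : ℕ → Prop)

/-- The indices of the atoms: an affine étale scheme and a prime. -/
def Idx : Type (u + 1) := Σ' (V : X.Etale) (_ : IsAffine V.left) (p : ℕ), p.Prime ∧ P p

/-- The atoms. -/
abbrev atom (a : Idx X P) : EtCoh.Ab X := EtPBC.extZeroConst a.1 (ZMod a.2.2.1)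

variable {X P}

theorem isTorsion_atom (a : Idx X P) : EtCoh.IsTorsion (atom X P a) :=
  Groth.L28.EtTrace.isTorsion_of_nsmul a.2.2.2.1.pos
    (Groth.L28.ExtShriek.nsmul_id_extZeroConst a.1 a.2.2.1)

theorem isTorsion_of_epi {G Q : EtCoh.Ab X} (p : G ⟶ Q) [Epi p] (hG : EtCoh.IsTorsion G) : EtCoh.IsTorsion Q :=
  Groth.L27.AffineEfface.isTorsion_of_isLTorsion
    (Groth.L27.CompTransfer.isLTorsion_of_epi p (Groth.L27.AffineEfface.isLTorsion_univ hG))

variable {F : EtCoh.Ab X}

/-- A section killed by `n` dies after dividing by atoms at the prime factors of `n`. -/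
theorem exists_kill (V : X.Etale) [IsAffine V.left] :
    ∀ (n : ℕ), 0 < n → (∀ p : ℕ, p.Prime → p ∣ n → P p) → ∀ {Q : EtCoh.Ab X} (π : F ⟶ Q), Dev (atom X P) F π →
      ∀ t : Q.obj.obj (op V), n • t = 0 →
        ∃ (Q' : EtCoh.Ab X) (φ : Q ⟶ Q'), Dev (atom X P) F (π ≫ φ) ∧ φ.hom.app (op V) t = 0 := by
  intro n
  induction n using Nat.strongRecOn with
  | _ n ih =>
    intro hn hP Q π hπ t ht
    by_cases h1 : n = 1
    · subst h1
      rw [one_nsmul] at ht
      exact ⟨Q, 𝟙 Q, by rwa [Category.comp_id], ht⟩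
    obtain ⟨p, hp, m, rfl⟩ := Nat.exists_prime_and_dvd h1
    have hm : 0 < m := Nat.pos_of_ne_zero fun h => by rw [h, mul_zero] at hn; exact lt_irrefl _ hn
    have hs : p • (m • t) = 0 := by rw [← mul_nsmul', ht]
    obtain ⟨e, s, hes⟩ := Groth.L28.ExtShriek.exists_map_of_section V p (m • t) hs
    let i : Idx X P := ⟨V, ‹_›, p, hp, hP p hp (dvd_mul_right p m)⟩
    have h0 : m • (cokernel.π e).hom.app (op V) t = 0 := by
      rw [← map_nsmul, ← hes]
      exact ConcreteCategory.congr_hom (congrArg (fun k => k.hom.app (op V)) (cokernel.condition e)) s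
    obtain ⟨Q', φ, hφ, hφ0⟩ := ih m ((lt_mul_iff_one_lt_left hm).2 hp.one_lt) hm
      (fun q hq hqm => hP q hq (hqm.mul_left p)) (π ≫ cokernel.π e) (hπ.step i e) _ h0
    exact ⟨Q', cokernel.π e ≫ φ, by rwa [← Category.assoc], hφ0⟩

/-- If the subsheaves of atoms have none in the degree above and the atoms have none in degree `q`, torsion sheaves have none. -/
theorem subsingleton_of_atoms' [CompactSpace X] [QuasiSeparatedSpace X] (q : ℕ)
    (hnext : ∀ (a : Idx X P) (G : EtCoh.Ab X) (m : G ⟶ atom X P a), Mono m → Subsingleton (EtCoh.H X G (q + 1)))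
    (hatom : ∀ a : Idx X P, Subsingleton (EtCoh.H X (atom X P a) q))
    (F : EtCoh.Ab X)
    (hF : ∀ (U : X.Etale) (s : F.obj.obj (op U)) (z : U.left), ∃ (V : X.Etale) (g : V ⟶ U) (v : V.left) (n : ℕ),
      IsAffine V.left ∧ g.left v = z ∧ 0 < n ∧ (∀ p : ℕ, p.Prime → p ∣ n → P p) ∧ n • F.obj.map g.op s = 0) :
    Subsingleton (EtCoh.H X F q) := by
  refine subsingleton_of_forall_eq 0 fun x => ?_
  obtain ⟨Q, π, hπ, hx⟩ := exists_dev_eq_zero (M := atom X P) (F := F) (fun U s z => by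
    obtain ⟨V, g, v, n, hV, hv, hn, hP, h0⟩ := hF U s z
    haveI := hV
    obtain ⟨Q', φ, hφ, h⟩ := exists_kill V n hn hP (𝟙 F) Dev.refl _ h0
    exact ⟨V, g, v, hv, Q', φ, by rwa [Category.id_comp] at hφ, h⟩) q x
  refine hπ.eq_zero (fun Q π hQ i e y hy => ?_) x hx
  let S : ShortComplex (EtCoh.Ab X) := ShortComplex.mk (Abelian.image.ι e) (cokernel.π e) (kernel.condition _)
  have hS : S.ShortExact :=
    { exact := ShortComplex.exact_of_f_is_kernel _ (kernelIsKernel _)
      mono_f := inferInstanceAs (Mono (kernel.ι (cokernel.π e)))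
      epi_g := inferInstanceAs (Epi (cokernel.π e)) }
  let r := Abelian.factorThruImage e
  let T : ShortComplex (EtCoh.Ab X) := ShortComplex.mk (kernel.ι r) r (kernel.condition _)
  have hT : T.ShortExact :=
    { exact := ShortComplex.exact_of_f_is_kernel _ (kernelIsKernel _)
      mono_f := inferInstanceAs (Mono (kernel.ι r))
      epi_g := inferInstanceAs (Epi r) }
  haveI : Subsingleton (EtCoh.H X T.X₁ (q + 1)) :=
    hnext i _ (kernel.ι r) inferInstance
  haveI := hatom i
  rw [Groth.L27.EtSite.HF_map_apply] at hy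
  obtain ⟨z, hz⟩ := Ext.covariant_sequence_exact₂ _ hS y hy
  obtain ⟨w, hw⟩ := Ext.covariant_sequence_exact₃ _ hT z rfl (Subsingleton.elim (α := EtCoh.H X T.X₁ (q + 1)) _ _)
  rw [← hz, ← hw, Subsingleton.elim (α := EtCoh.H X (atom X P i) q) w 0]
  simp

/-- If the degree above vanishes on torsion sheaves and the atoms have none in degree `q`, torsion sheaves have none. -/
theorem subsingleton_of_atoms [CompactSpace X] [QuasiSeparatedSpace X] (q : ℕ)
    (hnext : ∀ G : EtCoh.Ab X, EtCoh.IsTorsion G → Subsingleton (EtCoh.H X G (q + 1)))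
    (hatom : ∀ a : Idx X P, Subsingleton (EtCoh.H X (atom X P a) q))
    (F : EtCoh.Ab X)
    (hF : ∀ (U : X.Etale) (s : F.obj.obj (op U)) (z : U.left), ∃ (V : X.Etale) (g : V ⟶ U) (v : V.left) (n : ℕ),
      IsAffine V.left ∧ g.left v = z ∧ 0 < n ∧ (∀ p : ℕ, p.Prime → p ∣ n → P p) ∧ n • F.obj.map g.op s = 0) :
    Subsingleton (EtCoh.H X F q) :=
  subsingleton_of_atoms' q (fun a _ m hm => haveI := hm; hnext _ (Groth.L27.ModSquare.isTorsion_of_mono m (isTorsion_atom a)))
    hatom F hF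

/-- Torsion sheaves give sections killed locally on affine étale schemes. -/
theorem exists_killed (hF : EtCoh.IsTorsion F) (U : X.Etale) (s : F.obj.obj (op U)) (z : U.left) :
    ∃ (V : X.Etale) (g : V ⟶ U) (v : V.left) (n : ℕ), IsAffine V.left ∧ g.left v = z ∧ 0 < n ∧
      (∀ p : ℕ, p.Prime → p ∣ n → (fun _ => True) p) ∧ n • F.obj.map g.op s = 0 := by
  obtain ⟨V, g, v, hV, n, hn, hv, h0⟩ := Groth.L28.ExtShriek.exists_atom_section hF U s z
  exact ⟨V, g, v, n, hV, hv, hn, fun _ _ _ => trivial, h0⟩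

/-- Affine refinement of locally killed sections. -/
theorem exists_killed_pow (p : ℕ) (hp : p.Prime)
    (hF : ∀ (U : X.Etale) (s : EtCoh.sect F U) (x : U.left), ∃ (V : X.Etale) (g : V ⟶ U),
      (∃ v : V.left, g.left.base v = x) ∧ ∃ n : ℕ, (p ^ n) • (F.obj.map g.op s) = 0)
    (U : X.Etale) (s : F.obj.obj (op U)) (z : U.left) :
    ∃ (V : X.Etale) (g : V ⟶ U) (v : V.left) (n : ℕ), IsAffine V.left ∧ g.left v = z ∧ 0 < n ∧
      (∀ q : ℕ, q.Prime → q ∣ n → (fun r => r = p) q) ∧ n • F.obj.map g.op s = 0 := by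
  obtain ⟨V, g, ⟨v, hv⟩, m, hm⟩ := hF U s z
  obtain ⟨Ω, _, _, ξ', hξ'⟩ := Groth.L27.EtSite.exists_geometric_point v
  let q : Spec (CommRingCat.of Ω) ⟶ V.left := ξ'
  let y : (Scheme.pointSmallEtale (q ≫ V.hom)).fiber.obj V := Over.homMk q rfl
  obtain ⟨V', g', y', hV', hy'⟩ := Groth.L28.ExtShriek.exists_affine_refine V y
  let q' : Spec (CommRingCat.of Ω) ⟶ V'.left := y'.left
  refine ⟨V', g' ≫ g, q' default, p ^ m, hV', ?_, pow_pos hp.pos m, fun r hr hrm => ?_, ?_⟩
  · have e : q' ≫ g'.left = q := congrArg (fun z : (Scheme.pointSmallEtale (q ≫ V.hom)).fiber.obj V => z.left) hy'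
    refine (Scheme.Hom.comp_apply g'.left g.left _).trans ?_
    refine (congrArg g.left.base ?_).trans hv
    exact (Scheme.Hom.comp_apply _ _ _).symm.trans ((congrArg (fun m => m default) e).trans hξ')
  · exact (Nat.prime_dvd_prime_iff_eq hr hp).1 (hr.dvd_of_dvd_pow hrm)
  · rw [op_comp, F.obj.map_comp, ConcreteCategory.comp_apply, ← map_nsmul, hm, map_zero]

theorem isTorsion_of_pow (p : ℕ) (hp : p.Prime)
    (hF : ∀ (U : X.Etale) (s : EtCoh.sect F U) (x : U.left), ∃ (V : X.Etale) (g : V ⟶ U),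
      (∃ v : V.left, g.left.base v = x) ∧ ∃ n : ℕ, (p ^ n) • (F.obj.map g.op s) = 0) : EtCoh.IsTorsion F :=
  fun U s z => by
    obtain ⟨V, g, hv, n, hn⟩ := hF U s z
    exact ⟨V, g, hv, isOfFinAddOrder_iff_nsmul_eq_zero.2 ⟨p ^ n, pow_pos hp.pos n, hn⟩⟩

end Groth.L21.AffCd
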