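import Groth.Agent.S0204
import Groth.Agent.L22.CurveAmple.Affine
import Groth.Agent.L21.CurveTop
import Mathlib.RingTheory.RootsOfUnity.AlgebraicallyClosed
import Groth.Prelude.Def_Curve

/-!
# Roots of unity on affine opens of smooth proper curves
-/

set_option autoImplicit false
set_option linter.style.haveILetI false
set_option linter.unusedSectionVars false
set_option backward.isDefEq.respectTransparency false
set_option backward.isDefEq.respectTransparency.types false

universe u

open CategoryTheory CategoryTheory.Limits AlgebraicGeometry Opposite CategoryTheory.Abelian TopologicalSpace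
open EtSix

noncomputable section

namespace Groth.L21.AffCd

variable {k : Type u} [Field k] [IsAlgClosed k] {Xb : Scheme.{u}} [Xb.Over (Spec (CommRingCat.of k))]

/-- A nonempty open with nonempty boundary in an integral proper curve. -/
theorem open_props (hXb : Curve.IsSmoothProperCurve k Xb (Xb ↘ Spec (CommRingCat.of k)))
    (U : Xb.Opens) (hUc : ((U : Set Xb)ᶜ).Finite) (P : Xb) (hP : P ∉ U) :
    IsAffineOpen U ∧ Nonempty U := by
  obtain ⟨hp, hs, hi, hd⟩ := hXb
  haveI := hp; haveI := hs; haveI := hi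
  haveI := Groth.L21.RR.isNoetherian_of_proper (X := Xb) k
  haveI : JacobsonSpace Xb := LocallyOfFiniteType.jacobsonSpace (Xb ↘ Spec (CommRingCat.of k))
  have hne : (U : Set Xb).Nonempty := by
    by_contra h
    rw [Set.not_nonempty_iff_eq_empty] at h
    rw [h, Set.compl_empty] at hUc
    haveI : Finite Xb := Set.finite_univ_iff.1 hUc
    haveI : DiscreteTopology Xb := inferInstance
    have := topologicalKrullDim_zero_of_discreteTopology Xb
    rw [hd] at this
    exact absurd this (by decide)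
  have hη : genericPoint Xb ∈ U := ((genericPoint_spec Xb).mem_open_set_iff U.isOpen).2 (by simpa using hne)
  refine ⟨Groth.L22.CurveAmple.isAffineOpen_of_boundary k hd.le U (fun η hg => ?_) (fun y hy => ?_),
    ⟨⟨_, hη⟩⟩⟩
  · rw [← hg _ (genericPoint_specializes η)]
    exact hη
  · refine ⟨P, ?_, hP⟩
    rcases (Groth.L28.CurveCd.isClosed_or_maximal hd.le y) with h | h
    · exact absurd h hy
    · rw [← h _ (genericPoint_specializes y)]
      exact genericPoint_specializes P

/-- The global sections of the roots of unity. -/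
theorem nonempty_H0_mu {U : Scheme.{u}} [IsIntegral U] (f : U ⟶ Spec (CommRingCat.of k)) (n : ℕ) [NeZero n]
    (hn : (n : k) ≠ 0) : Nonempty (EtCoh.H U (EtCoh.mu U n) 0 ≃+ Additive ↥(rootsOfUnity n k)) := by
  haveI : NeZero (n : k) := ⟨hn⟩
  let i : k →+* Γ(U, ⊤) := ((Scheme.ΓSpecIso (CommRingCat.of k)).inv ≫ f.appTop).hom
  haveI : Nonempty (⊤ : U.Opens) := ⟨⟨Classical.arbitrary _, trivial⟩⟩
  haveI : IsDomain Γ(U, ⊤) := inferInstance
  let r := restrictRootsOfUnity i n
  have hr : Function.Bijective r := by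
    refine (Nat.bijective_iff_injective_and_card _).2 ⟨fun a b h => ?_, le_antisymm ?_ ?_⟩
    · exact Subtype.ext (Units.ext (i.injective (congrArg (fun z : rootsOfUnity n Γ(U, ⊤) => ((z : Γ(U, ⊤)ˣ) : Γ(U, ⊤))) h)))
    · exact Nat.card_le_card_of_injective r fun a b h => Subtype.ext (Units.ext
        (i.injective (congrArg (fun z : rootsOfUnity n Γ(U, ⊤) => ((z : Γ(U, ⊤)ˣ) : Γ(U, ⊤))) h)))
    · rw [HasEnoughRootsOfUnity.natCard_rootsOfUnity k n]
      exact card_rootsOfUnity Γ(U, ⊤) n
  let i0 := (EtCoh.HF U 0).map (EtCoh.muι U n)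
  have hi0 : Function.Injective i0 := (injective_iff_map_eq_zero _).2 fun x hx => by
    obtain ⟨a, rfl⟩ := (Ext.mk₀_bijective _ _).2 x
    rw [Groth.L27.EtSite.HF_map_apply, Ext.mk₀_comp_mk₀] at hx
    have h0 : a ≫ EtCoh.muι U n = 0 := (Ext.mk₀_bijective _ _).1 (hx.trans (Ext.mk₀_zero _ _).symm)
    haveI : Mono (EtCoh.muι U n) := inferInstanceAs (Mono (kernel.ι (EtCoh.powMap U n)))
    rw [zero_of_comp_mono _ h0]
    exact Ext.mk₀_zero _ _
  let j : EtCoh.H U (EtCoh.mu U n) 0 →+ Additive Γ(U, ⊤)ˣ :=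
    { toFun := fun x => Additive.ofMul (Groth.L27.MuConst.toUnit (U := EtCoh.top U)
        (Groth.L27.LimCoh.secEq (EtCoh.Gm U) (i0 x)))
      map_zero' := by rw [map_zero, map_zero]; rfl
      map_add' := fun a b => by rw [map_add, map_add]; rfl }
  have hj : Function.Injective j := fun a b h =>
    hi0 ((Groth.L27.LimCoh.secEq (EtCoh.Gm U)).injective
      (Groth.L27.MuConst.toUnit_injective (Additive.ofMul.injective h)))
  have hu : IsUnit (n : Γ(U, ⊤)) := by
    have := (isUnit_iff_ne_zero.2 hn).map i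
    rwa [map_natCast] at this
  have hmem : ∀ x, n • j x = 0 := fun x => by
    have h := (Groth.L28.GmTorsion.range_HF_muι n hu 0).subset ⟨x, rfl⟩
    apply Additive.toMul.injective
    show (Groth.L27.MuConst.toUnit (U := EtCoh.top U) (Groth.L27.LimCoh.secEq (EtCoh.Gm U) (i0 x))) ^ n = 1
    rw [← Groth.L27.MuConst.toUnit_nsmul, ← map_nsmul, show n • i0 x = 0 from h, map_zero]
    rfl
  let j' : EtCoh.H U (EtCoh.mu U n) 0 →+ Additive ↥(rootsOfUnity n Γ(U, ⊤)) :=
    { toFun := fun x => Additive.ofMul ⟨Additive.toMul (j x), (mem_rootsOfUnity n _).2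
        (by rw [← toMul_nsmul, hmem x, toMul_zero])⟩
      map_zero' := congrArg Additive.ofMul (Subtype.ext (congrArg Additive.toMul (map_zero j)))
      map_add' := fun a b => congrArg Additive.ofMul (Subtype.ext (congrArg Additive.toMul (map_add j a b))) }
  have hj' : Function.Bijective j' := by
    refine ⟨fun a b h => hj (congrArg (fun z : Additive ↥(rootsOfUnity n Γ(U, ⊤)) =>
      Additive.ofMul ((Additive.toMul z : ↥(rootsOfUnity n Γ(U, ⊤))) : Γ(U, ⊤)ˣ)) h), fun z => ?_⟩
    obtain ⟨⟨v, hv⟩, rfl⟩ := Additive.ofMul.surjective z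
    let t : (EtCoh.Gm U).obj.obj (op (EtCoh.top U)) := Groth.L27.MuConst.ofUnit (U := EtCoh.top U) v
    have ht : n • (Groth.L27.LimCoh.secEq (EtCoh.Gm U)).symm t = 0 := by
      rw [← map_nsmul, show n • t = 0 from Groth.L27.MuConst.toUnit_injective (by
        rw [Groth.L27.MuConst.toUnit_nsmul, Groth.L27.MuConst.toUnit_zero]
        exact (mem_rootsOfUnity n _).1 hv), map_zero]
    obtain ⟨x, hx⟩ := (Groth.L28.GmTorsion.range_HF_muι n hu 0).symm.subset ht
    refine ⟨x, congrArg Additive.ofMul (Subtype.ext ?_)⟩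
    show Groth.L27.MuConst.toUnit (U := EtCoh.top U) (Groth.L27.LimCoh.secEq (EtCoh.Gm U) (i0 x)) = v
    rw [show i0 x = _ from hx, AddEquiv.apply_symm_apply]
    rfl
  exact ⟨(AddEquiv.ofBijective j' hj').trans (MulEquiv.toAdditive (MulEquiv.ofBijective r hr)).symm⟩

/-- Roots of unity have no cohomology above degree one on affine curves. -/
theorem subsingleton_Hge2_mu {U : Scheme.{u}} [IsAffine U] (f : U ⟶ Spec (CommRingCat.of k))
    [LocallyOfFiniteType f] (hdim : topologicalKrullDim U ≤ 1) (n : ℕ) (hn : 0 < n) (q : ℕ) (hq : 2 ≤ q) :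
    Subsingleton (EtCoh.H U (EtCoh.mu U n) q) :=
  Groth.Agent.S0204.result k U f hdim _ (Groth.L28.EtTrace.isTorsion_of_nsmul hn (by
    haveI : Mono (EtCoh.muι U n) := inferInstanceAs (Mono (kernel.ι (EtCoh.powMap U n)))
    rw [← cancel_mono (EtCoh.muι U n), zero_comp, Preadditive.nsmul_comp, Category.id_comp,
      show n • EtCoh.muι U n = EtCoh.muι U n ≫ EtCoh.powMap U n from by
        show _ = EtCoh.muι U n ≫ (n • 𝟙 (EtCoh.Gm U))
        rw [Preadditive.comp_nsmul, Category.comp_id]]
    exact kernel.condition _)) q hq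

end Groth.L21.AffCd
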