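import Groth.Agent.L21.AffCd.PointKernel
import Groth.Agent.S0627
import Groth.Agent.S0224
import Groth.Agent.L28.GmH1.PointPush
import Groth.Agent.L27.EtSite.HofPush
import Groth.Prelude.Def_Curve

/-!
# Cohomology of roots of unity on the complement of a point
-/

set_option autoImplicit false
set_option linter.style.haveILetI false
set_option linter.unusedSectionVars false
set_option backward.isDefEq.respectTransparency false
set_option backward.isDefEq.respectTransparency.types false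

universe u

open CategoryTheory CategoryTheory.Limits AlgebraicGeometry Opposite TopologicalSpace CategoryTheory.Abelian
open EtSix

noncomputable section

namespace Groth.L21.AffCd

attribute [local instance] Groth.Agent.AV.InterPic.picLaw

/-- A sheaf killed by `n` has cohomology killed by `n`. -/
theorem nsmul_H_eq_zero {X : Scheme.{u}} {F : EtCoh.Ab X} (n : ℕ) (h : n • 𝟙 F = 0) (q : ℕ)
    (x : EtCoh.H X F q) : n • x = 0 := by
  let φ : (F ⟶ F) →+ EtCoh.H X F q := AddMonoidHom.mk' (fun f => Ext.comp x (Ext.mk₀ f) (add_zero q))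
    (fun a b => by rw [Ext.mk₀_add, Ext.comp_add])
  have h1 : φ (𝟙 F) = x := Ext.comp_mk₀_id x
  rw [← h1, ← map_nsmul, h, map_zero]

theorem nsmul_id_mu (X : Scheme.{u}) (n : ℕ) : n • 𝟙 (EtCoh.mu X n) = 0 := by
  haveI : Mono (EtCoh.muι X n) := inferInstanceAs (Mono (kernel.ι (EtCoh.powMap X n)))
  rw [← cancel_mono (EtCoh.muι X n), zero_comp, Preadditive.nsmul_comp, Category.id_comp,
    show n • EtCoh.muι X n = EtCoh.muι X n ≫ EtCoh.powMap X n from by
      show _ = EtCoh.muι X n ≫ (n • 𝟙 (EtCoh.Gm X))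
      rw [Preadditive.comp_nsmul, Category.comp_id]]
  exact kernel.condition _

/-- Isomorphic to roots of unity: killed by `n`. -/
theorem nsmul_H_const {k : Type u} [Field k] [IsAlgClosed k] {X : Scheme.{u}} (f : X ⟶ Spec (CommRingCat.of k))
    (n : ℕ) [NeZero n] (hn : (n : k) ≠ 0) (q : ℕ) (x : EtCoh.H X (EtCoh.const X (ZMod n)) q) : n • x = 0 := by
  obtain ⟨e⟩ := Groth.L21.CurveKummer.nonempty_const_iso_mu f n hn
  refine (Groth.L21.CurveKummer.congrH e q).injective ?_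
  rw [map_nsmul, map_zero]
  exact nsmul_H_eq_zero n (nsmul_id_mu X n) q _

variable (k : Type u) [Field k] [IsAlgClosed k] {X : Scheme.{u}} [X.Over (Spec (CommRingCat.of k))]
  [IsIntegral X] [IsProper (X ↘ Spec (CommRingCat.of k))] [Smooth (X ↘ Spec (CommRingCat.of k))]

include k

/-- The stalks are integrally closed. -/
theorem isIntegrallyClosed_stalk (hdim : topologicalKrullDim X = 1) (x : X) :
    IsIntegrallyClosed (X.presheaf.stalk x) := by
  haveI := Groth.L21.RR.isNoetherian_of_proper (X := X) k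
  haveI := Groth.L21.Smooth.regular_stalk (X ↘ Spec (CommRingCat.of k)) x
  have hp := Groth.L21.SmoothDescent.isPrincipal_of_dim_le_one
    ((Groth.L21.SmoothDescent.ringKrullDim_stalk_le x).trans hdim.le)
  haveI : IsPrincipalIdealRing (X.presheaf.stalk x) :=
    (tfae_of_isNoetherianRing_of_isLocalRing_of_isDomain (X.presheaf.stalk x)).out 4 0 |>.mp hp
  infer_instance

/-- Restriction to a nonempty open is injective on the first cohomology of constants. -/
theorem injective_Hpull_one (hdim : topologicalKrullDim X = 1) (U : X.Opens) [hne : Nonempty U] (n : ℕ)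
    [PreservesFiniteLimits (EtCoh.pull U.ι)] :
    Function.Injective (EtCore.Hpull U.ι (EtCoh.const X (ZMod n)) 1) := by
  obtain ⟨⟨x₀, hx₀⟩⟩ := hne
  haveI := Groth.Agent.S0627.result X (isIntegrallyClosed_stalk k hdim) U ⟨x₀, hx₀⟩ (ZMod n)
  intro a b hab
  rw [Groth.L27.EtSite.Hpull_apply, Groth.L27.EtSite.Hpull_apply] at hab
  have h := Groth.L28.GmH1.injective_HofPush_one U.ι _ hab
  refine (ConcreteCategory.bijective_of_isIso
    ((EtCoh.HF X 1).map ((EtCoh.pullPushAdj U.ι).unit.app (EtCoh.const X (ZMod n))))).1 ?_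
  rw [Groth.L27.EtSite.HF_map_apply, Groth.L27.EtSite.HF_map_apply]
  exact h

variable (hdim : topologicalKrullDim X = 1) {P : X} (hP : IsClosed ({P} : Set X)) {U : X.Opens}
  (hU : ∀ x, x ∈ U ↔ x ≠ P) [Nonempty U]

include hdim hP hU

/-- A class of degree zero trivial off a point is zero. -/
theorem eq_zero_of_pullPic_eq_zero (d : Additive (PicLoc.PicSet X) →+ ℤ)
    (hd : ∀ L hL, d (Additive.ofMul (PicGrp.cls L hL)) = Curv2.deg k X L 1)
    (p : Additive (PicLoc.PicSet X)) (hd0 : d p = 0) (hp : pullPic U.ι p = 0) : p = 0 := by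
  obtain ⟨L, hL, hpL⟩ := PicGrp.exists_eq_cls (Additive.toMul p)
  obtain ⟨M, hM, hpM⟩ := PicGrp.exists_eq_cls (Additive.toMul (-p))
  have hpL' : p = Additive.ofMul (PicGrp.cls L hL) := hpL ▸ rfl
  have hpM' : -p = Additive.ofMul (PicGrp.cls M hM) := hpM ▸ rfl
  have triv : ∀ (N : X.Modules) (hN : PicF.IsInvertible N), pullPic U.ι (Additive.ofMul (PicGrp.cls N hN)) = 0 →
      Nonempty (N.restrict U.ι ≅ Coh.structureModule (↑U : Scheme.{u})) := fun N hN h => by
    have h1 : PicF.pullCl U.ι (PicF.cl N) = PicF.cl (Coh.structureModule (↑U : Scheme.{u})) :=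
      (congrArg (fun z : Additive (PicLoc.PicSet (↑U : Scheme.{u})) => (Additive.toMul z).1) h).trans PicGrp.one_val
    obtain ⟨e⟩ := (PicGrp.cl_eq_cl_iff _ _).1 h1
    exact ⟨(Scheme.Modules.restrictFunctorIsoPullback U.ι).app N ≪≫ e⟩
  obtain ⟨eL⟩ := triv L hL (hpL' ▸ hp)
  obtain ⟨eM⟩ := triv M hM (by rw [← hpM', map_neg, hp, neg_zero])
  obtain ⟨eT⟩ := (PicGrp.cls_mul_cls_eq_one_iff hL hM).1 (by
    rw [← hpL, ← hpM, ← toMul_add, add_neg_cancel]; rfl)
  have hdL : Curv2.deg k X L 1 = 0 := by rw [← hd L hL, ← hpL', hd0]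
  have hdM : Curv2.deg k X M 1 = 0 := by rw [← hd M hM, ← hpM', map_neg, hd0, neg_zero]
  rcases iso_structure_of_trivial_off k hdim hP hU hL hM hdL hdM eL eM eT with ⟨⟨e⟩⟩ | ⟨⟨e⟩⟩
  · rw [hpL', (PicGrp.cls_eq_cls_iff hL (PicLoc.isInvertible_structureModule X)).2 ⟨e.symm⟩,
      PicGrp.cls_structureModule_eq_one]
    rfl
  · rw [← neg_eq_zero, hpM', (PicGrp.cls_eq_cls_iff hM (PicLoc.isInvertible_structureModule X)).2 ⟨e.symm⟩,
      PicGrp.cls_structureModule_eq_one]
    rfl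

/-- Torsion classes off a point. -/
theorem card_pic_torsion_compl (n : ℕ) [NeZero n] (hn : (n : k) ≠ 0) :
    Nat.card {q : Additive (PicLoc.PicSet (↑U : Scheme.{u})) // n • q = 0} = n ^ (2 * Curv2.genus k X) := by
  rw [← Groth.L21.CurveKummer.card_torsion k X hdim n hn]
  obtain ⟨d, hd, -, -⟩ := Groth.L21.CurveKummer.exists_degHom' k X hdim
  have hPU : P ∉ Set.range U.ι.base := by
    rw [show Set.range U.ι.base = (U : Set X) from U.range_ι]
    exact fun h => (hU P).1 h rfl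
  obtain ⟨L, hL, hdeg, hres⟩ := exists_point_class (k := k) U.ι hdim hPU hP
  let t : Additive (PicLoc.PicSet X) := Additive.ofMul (PicGrp.cls L hL)
  have hdt : d t = 1 := (hd L hL).trans hdeg
  have hd0 : ∀ p, n • p = 0 → d p = 0 := fun p hp => by
    have h := congrArg d hp
    rw [map_nsmul, map_zero, nsmul_eq_mul] at h
    exact (mul_eq_zero.1 h).resolve_left (Nat.cast_ne_zero.2 (NeZero.ne n))
  refine (Nat.card_congr (Equiv.ofBijective
    (fun p : {p : Additive (PicLoc.PicSet X) // n • p = 0} => (⟨pullPic U.ι p.1, by rw [← map_nsmul, p.2, map_zero]⟩ :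
      {q : Additive (PicLoc.PicSet (↑U : Scheme.{u})) // n • q = 0})) ⟨fun a b h => ?_, fun q => ?_⟩)).symm
  · refine Subtype.ext (sub_eq_zero.1 (eq_zero_of_pullPic_eq_zero k hdim hP hU d hd _ ?_ ?_))
    · rw [map_sub, hd0 _ a.2, hd0 _ b.2, sub_zero]
    · rw [map_sub]
      exact sub_eq_zero.2 (congrArg Subtype.val h)
  · obtain ⟨a, ha⟩ := surjective_pullPic (k := k) U.ι hdim q.1
    let b := a - d a • t
    have hb : pullPic U.ι b = q.1 := by rw [map_sub, map_zsmul, hres, zsmul_zero, sub_zero, ha]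
    have hdb : d b = 0 := by rw [map_sub, map_zsmul, hdt, smul_eq_mul, _root_.mul_one, sub_self]
    refine ⟨⟨b, eq_zero_of_pullPic_eq_zero k hdim hP hU d hd _ ?_ ?_⟩, Subtype.ext hb⟩
    · rw [map_nsmul, hdb, nsmul_zero]
    · rw [map_nsmul, hb, q.2]

/-- Global units of the complement of a point are divisible. -/
theorem exists_nsmul_H0_compl (n : ℕ) (hn : 0 < n) (y : EtCoh.H (↑U : Scheme.{u}) (EtCoh.Gm ↑U) 0) :
    ∃ z, n • z = y := by
  let i : k →+* Γ(X, ⊤) := ((Scheme.ΓSpecIso (CommRingCat.of k)).inv ≫ (X ↘ Spec (CommRingCat.of k)).appTop).hom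
  let j : k →+* Γ((↑U : Scheme.{u}), ⊤) :=
    U.topIso.inv.hom.comp ((X.presheaf.map (homOfLE (le_top : U ≤ ⊤)).op).hom.comp i)
  let t := Groth.L27.LimCoh.secEq (EtCoh.Gm (↑U : Scheme.{u})) y
  let a : Γ((↑U : Scheme.{u}), ⊤)ˣ := Groth.L27.MuConst.toUnit (U := EtCoh.top (↑U : Scheme.{u})) t
  obtain ⟨c, hc0, hc⟩ := unit_extends k hdim hP hU (U.topIso.hom a) (a.isUnit.map U.topIso.hom.hom)
  obtain ⟨r, hr⟩ := IsAlgClosed.exists_pow_nat_eq c hn
  have hr0 : r ≠ 0 := by
    rintro rfl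
    rw [zero_pow hn.ne'] at hr
    exact hc0 hr.symm
  have hjc : j c = (a : Γ((↑U : Scheme.{u}), ⊤)) := by
    show U.topIso.inv (Groth.L18.Frame.ro (le_top : U ≤ ⊤) (i c)) = _
    rw [hc]
    exact Iso.hom_inv_id_apply U.topIso _
  let b : Γ((↑U : Scheme.{u}), ⊤)ˣ := Units.map j.toMonoidHom (Units.mk0 r hr0)
  let s : (EtCoh.Gm (↑U : Scheme.{u})).obj.obj (op (EtCoh.top (↑U : Scheme.{u}))) :=
    Groth.L27.MuConst.ofUnit (U := EtCoh.top (↑U : Scheme.{u})) b
  refine ⟨(Groth.L27.LimCoh.secEq (EtCoh.Gm _)).symm s, (Groth.L27.LimCoh.secEq (EtCoh.Gm _)).injective ?_⟩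
  rw [map_nsmul, AddEquiv.apply_symm_apply]
  refine Groth.L27.MuConst.toUnit_injective (Units.ext ?_)
  rw [Groth.L27.MuConst.toUnit_nsmul, Units.val_pow_eq_pow_val]
  show j r ^ n = (a : Γ((↑U : Scheme.{u}), ⊤))
  rw [← map_pow, hr]
  exact hjc

/-- The number of classes in the first cohomology of roots of unity off a point. -/
theorem card_H1_mu_compl (n : ℕ) [NeZero n] (hn : (n : k) ≠ 0) :
    Nat.card (EtCoh.H (↑U : Scheme.{u}) (EtCoh.mu ↑U n) 1) = n ^ (2 * Curv2.genus k X) := by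
  let f : (↑U : Scheme.{u}) ⟶ Spec (CommRingCat.of k) := U.ι ≫ (X ↘ Spec (CommRingCat.of k))
  let i : k →+* Γ((↑U : Scheme.{u}), ⊤) := ((Scheme.ΓSpecIso (CommRingCat.of k)).inv ≫ f.appTop).hom
  have hu : IsUnit (n : Γ((↑U : Scheme.{u}), ⊤)) := by
    have := (isUnit_iff_ne_zero.2 hn).map i
    rwa [map_natCast] at this
  have h := Groth.L28.GmTorsion.epi_powMap hu
  obtain ⟨e⟩ := Groth.L28.GmH1.nonempty_equiv_pic (↑U : Scheme.{u})
  rw [← card_pic_torsion_compl k hdim hP hU n hn]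
  let ι : EtCoh.H (↑U : Scheme.{u}) (EtCoh.mu ↑U n) 1 →+ EtCoh.H (↑U : Scheme.{u}) (EtCoh.Gm ↑U) 1 :=
    (Ext.mk₀ (EtCoh.muι _ n)).postcomp _ (add_zero 1)
  have hι : Function.Injective ι := (injective_iff_map_eq_zero ι).2 fun x hx => by
    obtain ⟨y, hy⟩ := Ext.covariant_sequence_exact₁ _ (kummerShortExact h) x hx (zero_add 1)
    obtain ⟨z, hz⟩ := exists_nsmul_H0_compl k hdim hP hU n (NeZero.pos n) y
    rw [← hy, ← hz, ← Groth.L28.GmTorsion.comp_mk₀_powMap n 0 z]
    refine (Ext.comp_assoc_of_second_deg_zero z _ _ _).trans ?_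
    refine Eq.trans ?_ (Ext.comp_zero z _ 1 _ (zero_add 1))
    exact congrArg (fun w => z.comp w (zero_add 1)) (kummerShortExact h).comp_extClass
  refine Nat.card_congr (Equiv.ofBijective
    (fun x => (⟨e.symm (ι x), by
      rw [← map_nsmul, ← map_nsmul, nsmul_H_eq_zero n (nsmul_id_mu _ n) 1 x, map_zero, map_zero]⟩ :
      {q : Additive (PicLoc.PicSet (↑U : Scheme.{u})) // n • q = 0})) ⟨fun x y hxy => ?_, fun q => ?_⟩)
  · exact hι (e.symm.injective (congrArg Subtype.val hxy))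
  · obtain ⟨x, hx⟩ := Ext.covariant_sequence_exact₂ _ (kummerShortExact h) (e q.1)
      ((Groth.L28.GmTorsion.comp_mk₀_powMap n 1 (e q.1)).trans (by rw [← map_nsmul, q.2, map_zero]))
    exact ⟨x, Subtype.ext ((congrArg e.symm hx).trans (e.symm_apply_apply _))⟩

/-- Restriction to the complement of a point is bijective on the first cohomology of constants. -/
theorem bijective_Hpull_compl (n : ℕ) [NeZero n] (hn : (n : k) ≠ 0) [PreservesFiniteLimits (EtCoh.pull U.ι)] :
    Function.Bijective (EtCore.Hpull U.ι (EtCoh.const X (ZMod n)) 1) := by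
  obtain ⟨e⟩ := Groth.L21.CurveKummer.nonempty_const_iso_mu (U.ι ≫ (X ↘ Spec (CommRingCat.of k))) n hn
  have h2 : Nat.card (EtCoh.H (↑U : Scheme.{u}) ((EtCoh.pull U.ι).obj (EtCoh.const X (ZMod n))) 1) =
      n ^ (2 * Curv2.genus k X) :=
    (Nat.card_congr (Groth.L21.CurveKummer.congrH (EtCore.pullConst U.ι (ZMod n) ≪≫ e) 1).toEquiv).trans
      (card_H1_mu_compl k hdim hP hU n hn)
  obtain ⟨e1⟩ := Groth.L21.CurveKummer.nonempty_const_iso_mu (X ↘ Spec (CommRingCat.of k)) n hn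
  obtain ⟨a⟩ := Groth.L21.CurveKummer.nonempty_H1 k X hdim n hn
  have h1 : Nat.card (EtCoh.H X (EtCoh.const X (ZMod n)) 1) = n ^ (2 * Curv2.genus k X) := by
    rw [Nat.card_congr ((Groth.L21.CurveKummer.congrH e1 1).trans a).toEquiv, Nat.card_fun, Nat.card_fin,
      Nat.card_zmod]
  haveI : Finite (EtCoh.H (↑U : Scheme.{u}) ((EtCoh.pull U.ι).obj (EtCoh.const X (ZMod n))) 1) :=
    (Nat.card_ne_zero.1 (by rw [h2]; exact pow_ne_zero _ (NeZero.ne n))).2
  exact (Nat.bijective_iff_injective_and_card _).2 ⟨injective_Hpull_one k hdim U n, h1.trans h2.symm⟩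

end Groth.L21.AffCd
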