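import Groth.Agent.L21.AffCd.PointH1
import Groth.Agent.L21.AffCd.MuOpen
import Groth.Agent.S0659

/-!
# First cohomology of roots of unity on open curves
-/

set_option autoImplicit false
set_option linter.style.haveILetI false
set_option linter.unusedSectionVars false
set_option backward.isDefEq.respectTransparency false
set_option backward.isDefEq.respectTransparency.types false

universe u

open CategoryTheory CategoryTheory.Limits AlgebraicGeometry Opposite TopologicalSpace
open EtCore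

noncomputable section

namespace Groth.L21.AffCd

variable (k : Type u) [Field k] [IsAlgClosed k] {X : Scheme.{u}} [X.Over (Spec (CommRingCat.of k))]

include k

/-- A point outside a nonempty open of an integral curve is closed. -/
theorem isClosed_of_not_mem [IsIntegral X] (hdim : topologicalKrullDim X = 1) {U : X.Opens} (hne : Nonempty U)
    {P : X} (hP : P ∉ U) : IsClosed ({P} : Set X) := by
  obtain ⟨⟨x₀, hx₀⟩⟩ := hne
  rcases Groth.L28.CurveCd.isClosed_or_maximal hdim.le P with h | h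
  · exact h
  · refine absurd ?_ hP
    rw [← h _ (genericPoint_specializes P)]
    exact genericPoint_mem hx₀

/-- Constants have no second cohomology on affine opens of a smooth proper curve. -/
theorem subsingleton_H2_open (hXb : Curve.IsSmoothProperCurve k X (X ↘ Spec (CommRingCat.of k)))
    (U : X.Opens) (hUc : ((U : Set X)ᶜ).Finite) {P : X} (hP : P ∉ U) (n : ℕ) [NeZero n] (hn : (n : k) ≠ 0) :
    Subsingleton (EtCoh.H (↑U : Scheme.{u}) ((EtCoh.pull U.ι).obj (EtCoh.const X (ZMod n))) 2) := by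
  obtain ⟨hA, hne⟩ := open_props (k := k) hXb U hUc P hP
  obtain ⟨hp, hs, hi, hd⟩ := hXb
  haveI := hp
  haveI : IsAffine (↑U : Scheme.{u}) := hA
  obtain ⟨e⟩ := Groth.L21.CurveKummer.nonempty_const_iso_mu (U.ι ≫ (X ↘ Spec (CommRingCat.of k))) n hn
  refine (Groth.L21.CurveKummer.congrH (EtCore.pullConst U.ι (ZMod n) ≪≫ e) 2).toEquiv.subsingleton_congr.2 ?_
  exact subsingleton_Hge2_mu (U.ι ≫ (X ↘ Spec (CommRingCat.of k)))
    (U.ι.isOpenEmbedding.isEmbedding.isInducing.topologicalKrullDim_le.trans hd.le) n (NeZero.pos n) 2 le_rfl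

/-- The first cohomology of constants on the complement of finitely many points. -/
theorem nonempty_H1_open (hXb : Curve.IsSmoothProperCurve k X (X ↘ Spec (CommRingCat.of k)))
    (n : ℕ) [NeZero n] (hn : (n : k) ≠ 0) : ∀ (r : ℕ) (U : X.Opens), ((U : Set X)ᶜ).Finite →
      ((U : Set X)ᶜ).ncard = r + 1 →
      Nonempty (EtCoh.H (↑U : Scheme.{u}) (EtCoh.const ↑U (ZMod n)) 1 ≃+
        (Fin (2 * Curv2.genus k X + r) → ZMod n)) := by
  obtain ⟨hp, hs, hi, hd⟩ := id hXb
  haveI := hp; haveI := hs; haveI := hi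
  intro r
  induction r with
  | zero =>
    intro U hUc hcard
    obtain ⟨P, hP⟩ := Set.ncard_eq_one.1 hcard
    have hU : ∀ x, x ∈ U ↔ x ≠ P := fun x => by
      rw [← not_iff_not, not_not, ← SetLike.mem_coe, ← Set.mem_compl_iff, hP, Set.mem_singleton_iff]
    have hne := (open_props (k := k) hXb U hUc P fun h => (hU P).1 h rfl).2
    haveI := hne
    haveI := Groth.L27.EtSite.preservesFiniteLimits_pull U.ι
    have hPc := isClosed_of_not_mem k hd hne (P := P) fun h => (hU P).1 h rfl
    obtain ⟨e1⟩ := Groth.L21.CurveKummer.nonempty_const_iso_mu (X ↘ Spec (CommRingCat.of k)) n hn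
    obtain ⟨a⟩ := Groth.L21.CurveKummer.nonempty_H1 k X hd n hn
    let b := AddEquiv.ofBijective _ (bijective_Hpull_compl k hd hPc hU n hn)
    exact ⟨(Groth.L21.CurveKummer.congrH (EtCore.pullConst U.ι (ZMod n)) 1).symm.trans
      (b.symm.trans ((Groth.L21.CurveKummer.congrH e1 1).trans a))⟩
  | succ r ih =>
    intro U hUc hcard
    obtain ⟨P, hP⟩ := Set.nonempty_of_ncard_ne_zero (by omega : ((U : Set X)ᶜ).ncard ≠ 0)
    have hne := (open_props (k := k) hXb U hUc P hP).2
    haveI := hne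
    have hcl : ∀ x ∈ (U : Set X)ᶜ, IsClosed ({x} : Set X) := fun x hx => isClosed_of_not_mem k hd hne hx
    have hPc := hcl P hP
    have hS : IsClosed (((U : Set X)ᶜ) \ {P}) := by
      rw [← Set.biUnion_of_singleton (((U : Set X)ᶜ) \ {P})]
      exact (hUc.subset Set.sdiff_subset).isClosed_biUnion fun x hx => hcl x hx.1
    let U1 : X.Opens := ⟨{P}ᶜ, hPc.isOpen_compl⟩
    let U' : X.Opens := ⟨(((U : Set X)ᶜ) \ {P})ᶜ, hS.isOpen_compl⟩
    have hU1 : ∀ x, x ∈ U1 ↔ x ≠ P := fun x => Iff.rfl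
    have hc1 : ((U1 : Set X)ᶜ) = {P} := compl_compl _
    have hc' : ((U' : Set X)ᶜ) = ((U : Set X)ᶜ) \ {P} := compl_compl _
    have hcard' : ((U' : Set X)ᶜ).ncard = r + 1 := by
      rw [hc', Set.ncard_sdiff_singleton_of_mem hP, hcard]
      omega
    obtain ⟨Q, hQ⟩ := Set.nonempty_of_ncard_ne_zero (by omega : ((U' : Set X)ᶜ).ncard ≠ 0)
    have htop : U1 ⊔ U' = ⊤ := top_unique fun x _ => by
      by_cases hx : x = P
      · exact Or.inr fun h => h.2 hx
      · exact Or.inl hx
    have hinf : U1 ⊓ U' = U := by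
      apply Opens.ext
      ext x
      change (x ∈ ({P} : Set X)ᶜ ∧ x ∈ (((U : Set X)ᶜ) \ {P})ᶜ) ↔ x ∈ (U : Set X)
      refine ⟨fun ⟨h1, h2⟩ => by_contra fun h => h2 ⟨h, h1⟩, fun h => ⟨fun e => hP (e ▸ h), fun h' => h'.1 h⟩⟩
    haveI : Nonempty U1 := ⟨⟨hne.some.1, fun e => hP (e ▸ hne.some.2)⟩⟩
    haveI := Groth.L27.EtSite.preservesFiniteLimits_pull U1.ι
    haveI := Groth.L27.EtSite.preservesFiniteLimits_pull U'.ι
    haveI := Groth.L27.EtSite.preservesFiniteLimits_pull (X.homOfLE (inf_le_left : U1 ⊓ U' ≤ U1))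
    haveI := Groth.L27.EtSite.preservesFiniteLimits_pull (X.homOfLE (inf_le_right : U1 ⊓ U' ≤ U'))
    let F := EtCoh.const X (ZMod n)
    obtain ⟨δ, -, h1, h2, h3⟩ := Groth.Agent.S0659.result X U1 U' htop F
    haveI h20 := subsingleton_H2_open k hXb U1 (by rw [hc1]; exact Set.finite_singleton P)
      (P := P) (fun h => h rfl) n hn
    haveI h21 := subsingleton_H2_open k hXb U' (by rw [hc']; exact hUc.subset Set.sdiff_subset)
      (P := Q) hQ n hn
    have hbij := bijective_Hpull_compl k hd hPc hU1 n hn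
    let rA := EtCore.Hpull U1.ι F 1
    let rB := EtCore.Hpull U'.ι F 1
    let a := EtCore.HpullVia (X.homOfLE (inf_le_left : U1 ⊓ U' ≤ U1)) U1.ι (U1 ⊓ U').ι (X.homOfLE_ι inf_le_left) F 1
    let b := EtCore.HpullVia (X.homOfLE (inf_le_right : U1 ⊓ U' ≤ U')) U'.ι (U1 ⊓ U').ι (X.homOfLE_ι inf_le_right) F 1
    have hd0 : ∀ z, a (rA z) = b (rB z) := fun z => by
      have h := (h2 1).symm ▸ (show (rA z, rB z) ∈ (AddMonoidHom.prod rA rB).range from ⟨z, rfl⟩)
      exact sub_eq_zero.1 h
    have hker : ∀ c, (δ 1) c = 0 ↔ ∃ y, b y = c := fun c => by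
      refine (SetLike.ext_iff.1 (h3 1) c).trans ⟨?_, ?_⟩
      · rintro ⟨⟨x, y⟩, rfl⟩
        obtain ⟨z, rfl⟩ := hbij.2 x
        exact ⟨rB z - y, (map_sub b _ _).trans (congrArg (· - b y) (hd0 z).symm)⟩
      · rintro ⟨y, rfl⟩
        exact ⟨(0, -y), show a 0 - b (-y) = b y by rw [map_zero, map_neg, zero_sub, neg_neg]⟩
    have hbinj : Function.Injective b := (injective_iff_map_eq_zero b).2 fun y hy => by
      have hmem : ((0 : _), y) ∈ (AddMonoidHom.prod rA rB).range := by
        rw [← h2 1]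
        exact show a 0 - b y = 0 by rw [map_zero, hy, sub_zero]
      obtain ⟨z, hz⟩ := hmem
      have hz1 : rA z = 0 := congrArg Prod.fst hz
      rw [← show rB z = y from congrArg Prod.snd hz, hbij.1 (hz1.trans (map_zero rA).symm), map_zero]
    have hsurj : Function.Surjective (δ 1) := fun c => by
      have : c ∈ (AddMonoidHom.prod (EtCore.Hpull U1.ι F (1 + 1)) (EtCore.Hpull U'.ι F (1 + 1))).ker :=
        Prod.ext (@Subsingleton.elim _ h20 _ _) (@Subsingleton.elim _ h21 _ _)
      rw [h1 1] at this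
      exact this
    obtain ⟨e1⟩ := Groth.L21.CurveKummer.nonempty_const_iso_mu (X ↘ Spec (CommRingCat.of k)) n hn
    obtain ⟨e2⟩ := Groth.L21.CurveKummer.nonempty_H2 k X hd n hn
    let eZ : EtCoh.H X F 2 ≃+ ZMod n := (Groth.L21.CurveKummer.congrH e1 2).trans e2
    obtain ⟨c₀, hc₀⟩ := hsurj (eZ.symm 1)
    let eI := Groth.L21.CurveKummer.congrH (EtCore.pullConst (U1 ⊓ U').ι (ZMod n)) 1
    have hkill : n • c₀ = 0 := eI.injective (by
      rw [map_nsmul, map_zero]
      exact nsmul_H_const ((U1 ⊓ U').ι ≫ (X ↘ Spec (CommRingCat.of k))) n hn 1 _)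
    let s : ZMod n →+ EtCoh.H (↑(U1 ⊓ U') : Scheme.{u}) ((EtCoh.pull (U1 ⊓ U').ι).obj F) 1 :=
      ZMod.lift n ⟨zmultiplesHom _ c₀, by
        rw [zmultiplesHom_apply, natCast_zsmul]; exact hkill⟩
    have hs : ∀ z, eZ (δ 1 (s z)) = z := fun z => by
      obtain ⟨j, rfl⟩ := ZMod.intCast_surjective z
      rw [show s (j : ZMod n) = j • c₀ from ZMod.lift_coe n _ j, map_zsmul, map_zsmul, hc₀, eZ.apply_symm_apply,
        zsmul_one]
    let m := AddMonoidHom.coprod b s
    have hm : Function.Bijective m := by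
      refine ⟨(injective_iff_map_eq_zero m).2 fun ⟨y, z⟩ hyz => ?_, fun c => ?_⟩
      · change b y + s z = 0 at hyz
        have hz : z = 0 := by
          have h := congrArg (fun c => eZ (δ 1 c)) hyz
          simp only [map_add, map_zero, (hker (b y)).2 ⟨y, rfl⟩, zero_add, hs] at h
          exact h
        subst hz
        rw [map_zero, add_zero] at hyz
        exact Prod.ext (hbinj (hyz.trans (map_zero b).symm)) rfl
      · obtain ⟨y, hy⟩ := (hker (c - s (eZ (δ 1 c)))).1 (eZ.injective (by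
          rw [map_sub, map_sub, hs, sub_self, map_zero]))
        exact ⟨(y, eZ (δ 1 c)), show b y + s (eZ (δ 1 c)) = c by rw [hy, sub_add_cancel]⟩
    obtain ⟨eB⟩ := ih U' (by rw [hc']; exact hUc.subset Set.sdiff_subset) hcard'
    let eB' := (Groth.L21.CurveKummer.congrH (EtCore.pullConst U'.ι (ZMod n)) 1).trans eB
    rw [← hinf]
    exact ⟨eI.symm.trans ((AddEquiv.ofBijective m hm).symm.trans
      ((AddEquiv.prodCongr eB' (AddEquiv.refl (ZMod n))).trans
        ((AddEquiv.prodComm).trans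
          { Fin.consEquiv (fun _ : Fin (2 * Curv2.genus k X + r + 1) => ZMod n) with
            map_add' := fun x y => funext fun i => by
              refine Fin.cases ?_ ?_ i
              · rfl
              · intro j; rfl })))⟩

end Groth.L21.AffCd
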