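import Groth.Agent.L21.AffCd.Smooth
import Groth.Agent.L18.GenLocus
import Groth.Agent.L21.Extend.Gen
import Groth.Agent.L22.CurveDeg.Maps
import Groth.Agent.L19.ProjBdl.PullComp
import Groth.Agent.L03.SurfAmple.Growth
import Mathlib.AlgebraicGeometry.FunctionField

/-!
# The complement of a point of a smooth proper curve: units and classes
-/

set_option autoImplicit false
set_option linter.style.haveILetI false
set_option linter.unusedSectionVars false
set_option backward.isDefEq.respectTransparency false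
set_option backward.isDefEq.respectTransparency.types false

universe u

open CategoryTheory CategoryTheory.Limits AlgebraicGeometry Opposite TopologicalSpace

noncomputable section

namespace Groth.L21.AffCd

open Groth.L18.Frame (rs ro rs_rs rs_self rs_smul ro_ro ro_self ro_mul IsFrame)

attribute [local instance] Groth.Agent.AV.InterPic.picLaw

section Extend

variable {X : Scheme.{u}} [IsIntegral X]

theorem germ_gen_inj {V : X.Opens} (hV : genericPoint X ∈ V) {a b : Γ(X, V)}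
    (h : X.presheaf.germ V _ hV a = X.presheaf.germ V _ hV b) : a = b :=
  germ_injective_of_isIntegral _ _ hV h

theorem germ_ro {V W : X.Opens} (h : W ≤ V) {x : X} (hx : x ∈ W) (a : Γ(X, V)) :
    X.presheaf.germ W x hx (ro h a) = X.presheaf.germ V x (h hx) a :=
  TopCat.Presheaf.germ_res_apply _ _ _ _ _

theorem ro_zero {Y : Scheme.{u}} {V W : Y.Opens} (h : W ≤ V) : ro h (0 : Γ(Y, V)) = 0 := map_zero _

theorem ro_one {Y : Scheme.{u}} {V W : Y.Opens} (h : W ≤ V) : ro h (1 : Γ(Y, V)) = 1 := map_one _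

theorem rs_zero {Y : Scheme.{u}} (M : Y.Modules) {V W : Y.Opens} (h : W ≤ V) : rs M h (0 : Γ(M, V)) = 0 := map_zero _

theorem genericPoint_mem {V : X.Opens} {x : X} (hx : x ∈ V) : genericPoint X ∈ V :=
  ((genericPoint_spec X).mem_open_set_iff V.2).2 ⟨x, trivial, hx⟩

/-- A function on a punctured neighbourhood whose value in the function field is regular at the point extends. -/
theorem exists_extend {P : X} {U W : X.Opens} (hU : ∀ x, x ∈ U ↔ x ≠ P) (hPW : P ∈ W) (hη : genericPoint X ∈ W ⊓ U)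
    (c : Γ(X, W ⊓ U)) (a : X.presheaf.stalk P)
    (h : algebraMap (X.presheaf.stalk P) X.functionField a = X.presheaf.germ _ _ hη c) :
    ∃ t : Γ(X, W), ro (inf_le_left : W ⊓ U ≤ W) t = c := by
  obtain ⟨N₀, hPN, s₀, rfl⟩ := TopCat.Presheaf.exists_germ_eq X.presheaf a
  let N : X.Opens := N₀ ⊓ W
  let s : Γ(X, N) := ro (inf_le_left : N ≤ N₀) s₀
  have hPN' : P ∈ N := ⟨hPN, hPW⟩
  have hgen : X.presheaf.germ N _ (genericPoint_mem hPN') s = X.presheaf.germ _ _ hη c := by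
    rw [← h]
    show _ = X.presheaf.stalkSpecializes _ (X.presheaf.germ N₀ P hPN s₀)
    rw [TopCat.Presheaf.germ_stalkSpecializes_apply, germ_ro]
  let O : ULift.{u} Bool → X.Opens := fun i => cond i.down N (W ⊓ U)
  let f : ∀ i, Γ(X, O i) := fun i => match i with
    | ⟨true⟩ => s
    | ⟨false⟩ => c
  have hagree : ro (inf_le_left : N ⊓ (W ⊓ U) ≤ N) s = ro (inf_le_right : N ⊓ (W ⊓ U) ≤ W ⊓ U) c :=
    germ_gen_inj (V := N ⊓ (W ⊓ U)) ⟨genericPoint_mem hPN', hη⟩ ((germ_ro (inf_le_left : N ⊓ (W ⊓ U) ≤ N) _ s).trans (hgen.trans (germ_ro (inf_le_right : N ⊓ (W ⊓ U) ≤ W ⊓ U) _ c).symm))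
  obtain ⟨t, ht, -⟩ := TopCat.Sheaf.existsUnique_gluing' X.sheaf O W
    (fun i => homOfLE (match i with | ⟨true⟩ => inf_le_right | ⟨false⟩ => inf_le_left))
    (fun x hx => Opens.mem_iSup.2 (by
      by_cases hxP : x = P
      · exact ⟨⟨true⟩, hxP ▸ hPN'⟩
      · exact ⟨⟨false⟩, hx, (hU x).2 hxP⟩)) f (by
      rintro ⟨⟨⟩⟩ ⟨⟨⟩⟩
      · rfl
      · refine germ_gen_inj (V := (W ⊓ U) ⊓ N) ⟨hη, genericPoint_mem hPN'⟩ ?_
        show X.presheaf.germ _ _ _ (ro inf_le_left c) = X.presheaf.germ _ _ _ (ro inf_le_right s)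
        rw [germ_ro, germ_ro]
        exact hgen.symm
      · exact hagree
      · rfl)
  exact ⟨t, ht ⟨false⟩⟩

end Extend

variable (k : Type u) [Field k] [IsAlgClosed k] {X : Scheme.{u}} [X.Over (Spec (CommRingCat.of k))]
  [IsIntegral X] [IsProper (X ↘ Spec (CommRingCat.of k))] [Smooth (X ↘ Spec (CommRingCat.of k))]

include k

/-- Of a function and its companion with regular product, one is regular at a point of a smooth curve. -/
theorem regular_or_regular (hdim : topologicalKrullDim X = 1) {P : X} (hP : IsClosed ({P} : Set X))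
    (x y : X.functionField) (b : X.presheaf.stalk P) (hb : algebraMap (X.presheaf.stalk P) X.functionField b = x * y) :
    (∃ a, algebraMap (X.presheaf.stalk P) X.functionField a = x) ∨
      ∃ a, algebraMap (X.presheaf.stalk P) X.functionField a = y := by
  haveI := Groth.L21.RR.isNoetherian_of_proper (X := X) k
  haveI := Groth.L21.Smooth.regular_stalk (X ↘ Spec (CommRingCat.of k)) P
  haveI := Groth.L21.RR.isDiscreteValuationRing_stalk hdim hP ‹_›
  rcases ValuationRing.isInteger_or_isInteger (X.presheaf.stalk P) x with ⟨a, ha⟩ | ⟨a, ha⟩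
  · exact Or.inl ⟨a, ha⟩
  · rcases eq_or_ne x 0 with rfl | hx
    · exact Or.inl ⟨0, map_zero _⟩
    · refine Or.inr ⟨b * a, ?_⟩
      rw [map_mul, hb, ha, mul_comm x y, mul_assoc, mul_inv_cancel₀ hx, _root_.mul_one]

/-- Global functions are constant. -/
theorem exists_const (t : Γ(X, ⊤)) :
    ∃ c : k, ((Scheme.ΓSpecIso (CommRingCat.of k)).inv ≫ (X ↘ Spec (CommRingCat.of k)).appTop).hom c = t := by
  let f := X ↘ Spec (CommRingCat.of k)
  let i : k →+* Γ(X, ⊤) := ((Scheme.ΓSpecIso (CommRingCat.of k)).inv ≫ f.appTop).hom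
  haveI : Nonempty (⊤ : X.Opens) := ⟨⟨Classical.arbitrary _, trivial⟩⟩
  haveI : IsDomain Γ(X, ⊤) := inferInstance
  have hfin : i.Finite := (finite_appTop_of_universallyClosed k f).comp
    (RingHom.Finite.of_surjective _
      (ConcreteCategory.bijective_of_isIso (Scheme.ΓSpecIso (CommRingCat.of k)).inv).2)
  exact (IsAlgClosed.ringHom_bijective_of_isIntegral i (RingHom.IsIntegral.of_finite hfin)).2 t

/-- The units of the complement of a point extend. -/
theorem unit_extends (hdim : topologicalKrullDim X = 1) {P : X} (hP : IsClosed ({P} : Set X)) {U : X.Opens}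
    (hU : ∀ x, x ∈ U ↔ x ≠ P) [hne : Nonempty U] (u : Γ(X, U)) (hu : IsUnit u) :
    ∃ c : k, c ≠ 0 ∧ ro (le_top : U ≤ ⊤)
      (((Scheme.ΓSpecIso (CommRingCat.of k)).inv ≫ (X ↘ Spec (CommRingCat.of k)).appTop).hom c) = u := by
  let i : k →+* Γ(X, ⊤) := ((Scheme.ΓSpecIso (CommRingCat.of k)).inv ≫ (X ↘ Spec (CommRingCat.of k)).appTop).hom
  obtain ⟨⟨x₀, hx₀⟩⟩ := hne
  have hη : genericPoint X ∈ (⊤ : X.Opens) ⊓ U := ⟨trivial, genericPoint_mem hx₀⟩
  have key : ∀ v : Γ(X, U), IsUnit v →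
      (∃ a, algebraMap (X.presheaf.stalk P) X.functionField a = X.presheaf.germ _ _ hη.2 v) →
      ∃ c : k, c ≠ 0 ∧ ro (le_top : U ≤ ⊤) (i c) = v := fun v hv ⟨a, ha⟩ => by
    obtain ⟨t, ht⟩ := exists_extend hU (show P ∈ (⊤ : X.Opens) from trivial) hη (ro inf_le_right v) a
      (by rw [germ_ro]; exact ha)
    obtain ⟨c, rfl⟩ := exists_const k t
    have h1 : ro (le_top : U ≤ ⊤) (i c) = v := by
      have h2 := congrArg (ro (le_inf le_top le_rfl : U ≤ ⊤ ⊓ U)) ht
      rw [ro_ro, ro_ro, ro_self] at h2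
      exact h2
    refine ⟨c, fun h0 => ?_, h1⟩
    rw [h0, map_zero, ro_zero] at h1
    haveI : Nonempty U := ⟨⟨x₀, hx₀⟩⟩
    exact hv.ne_zero h1.symm
  obtain ⟨w, hw⟩ := hu.exists_right_inv
  rcases regular_or_regular k hdim hP (X.presheaf.germ _ _ hη.2 u) (X.presheaf.germ _ _ hη.2 w) 1
    (by rw [map_one, ← map_mul, hw, map_one]) with h | h
  · exact key u hu h
  · obtain ⟨c, hc0, hc⟩ := key w (IsUnit.of_mul_eq_one u (by rw [mul_comm]; exact hw)) h
    refine ⟨c⁻¹, inv_ne_zero hc0, ?_⟩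
    calc ro (le_top : U ≤ ⊤) (i c⁻¹) = ro (le_top : U ≤ ⊤) (i c⁻¹) * (u * w) := by rw [hw, _root_.mul_one]
      _ = (ro (le_top : U ≤ ⊤) (i c⁻¹) * ro (le_top : U ≤ ⊤) (i c)) * u := by rw [hc, mul_comm u w, mul_assoc]
      _ = u := by rw [← ro_mul, ← map_mul, inv_mul_cancel₀ hc0, map_one, ro_one, _root_.one_mul]

/-- An invertible module of degree zero which is trivial off a point is trivial. -/
theorem iso_structure_of_trivial_off (hdim : topologicalKrullDim X = 1) {P : X} (hP : IsClosed ({P} : Set X))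
    {U : X.Opens} (hU : ∀ x, x ∈ U ↔ x ≠ P) [hne : Nonempty U] {L M : X.Modules} (hL : PicF.IsInvertible L)
    (hM : PicF.IsInvertible M) (hdL : Curv2.deg k X L 1 = 0) (hdM : Curv2.deg k X M 1 = 0)
    (eL : L.restrict U.ι ≅ Coh.structureModule (↑U : Scheme.{u}))
    (eM : M.restrict U.ι ≅ Coh.structureModule (↑U : Scheme.{u}))
    (eT : CohB1.tensorMod L M ≅ Coh.structureModule X) :
    Nonempty (Coh.structureModule X ≅ L) ∨ Nonempty (Coh.structureModule X ≅ M) := by
  let i : k →+* Γ(X, ⊤) := ((Scheme.ΓSpecIso (CommRingCat.of k)).inv ≫ (X ↘ Spec (CommRingCat.of k)).appTop).hom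
  obtain ⟨⟨x₀, hx₀⟩⟩ := hne
  haveI : Nonempty U := ⟨⟨x₀, hx₀⟩⟩
  obtain ⟨e, he⟩ := Groth.L21.Extend.exists_gen_of_iso L eL
  obtain ⟨e', he'⟩ := Groth.L21.Extend.exists_gen_of_iso M eM
  change IsFrame L U e at he
  change IsFrame M U e' at he'
  obtain ⟨W₁, f₁, hP₁, hf₁⟩ := Groth.L18.Frame.exists_frame hL P
  obtain ⟨W₂, f₂, hP₂, hf₂⟩ := Groth.L18.Frame.exists_frame hM P
  let W := W₁ ⊓ W₂
  let f : Γ(L, W) := rs L inf_le_left f₁
  let f' : Γ(M, W) := rs M inf_le_right f₂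
  have hf : IsFrame L W f := hf₁.mono _
  have hf' : IsFrame M W f' := hf₂.mono _
  have hPW : P ∈ W := ⟨hP₁, hP₂⟩
  have hη : genericPoint X ∈ W ⊓ U := ⟨genericPoint_mem hPW, genericPoint_mem hx₀⟩
  obtain ⟨c, hc⟩ := hf.exists_coeff (inf_le_left : W ⊓ U ≤ W) (rs L inf_le_right e)
  obtain ⟨c', hc'⟩ := hf'.exists_coeff (inf_le_left : W ⊓ U ≤ W) (rs M inf_le_right e')
  -- the product of the coefficients is regular at the point
  have hT := Groth.L18.GenLoc.isFrame_tens hf hf'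
  have hTU := Groth.L18.GenLoc.isFrame_tens he he'
  let T := CohB1.tensorMod L M
  let g : Γ(T, ⊤) := eT.inv.app ⊤ (show Γ(Coh.structureModule X, ⊤) from (1 : Γ(X, ⊤)))
  have hg : IsFrame T ⊤ g := Groth.L19.ProjBdl.isFrame_of_iso eT.symm (Groth.L03.SurfAmple.isFrame_one (⊤ : X.Opens))
  obtain ⟨v, hv⟩ := hg.exists_coeff le_top (Groth.L18.GenLoc.tens L M U e e')
  obtain ⟨w, hw⟩ := hg.exists_coeff le_top (Groth.L18.GenLoc.tens L M W f f')
  have hvu : IsUnit v := Groth.L18.Frame.isUnit_of_isFrame (hg.mono le_top) (by rw [hv]; exact hTU)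
  have hwu : IsUnit w := Groth.L18.Frame.isUnit_of_isFrame (hg.mono le_top) (by rw [hw]; exact hT)
  obtain ⟨κ, hκ0, hκ⟩ := unit_extends k hdim hP hU v hvu
  have hprod : c * c' * ro inf_le_left w = ro (inf_le_right : W ⊓ U ≤ U) v := by
    refine hg.inj (V := W ⊓ U) le_top ?_
    have h1 : rs T (inf_le_left : W ⊓ U ≤ W) (Groth.L18.GenLoc.tens L M W f f') =
        ro (inf_le_left : W ⊓ U ≤ W) w • rs T (le_top : W ⊓ U ≤ ⊤) g := by
      rw [← hw, rs_smul, rs_rs]
    have h2 : rs T (inf_le_right : W ⊓ U ≤ U) (Groth.L18.GenLoc.tens L M U e e') =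
        ro (inf_le_right : W ⊓ U ≤ U) v • rs T (le_top : W ⊓ U ≤ ⊤) g := by
      rw [← hv, rs_smul, rs_rs]
    rw [mul_smul, ← h1, ← h2, Groth.L18.GenLoc.tens_rs, Groth.L18.GenLoc.tens_rs, ← hc, ← hc',
      Groth.L18.GenLoc.tens_smul_left, Groth.L18.GenLoc.tens_smul_right, mul_smul]
  have hb : ∃ b, algebraMap (X.presheaf.stalk P) X.functionField b =
      X.presheaf.germ _ _ hη c * X.presheaf.germ _ _ hη c' := by
    obtain ⟨w', hw'⟩ := hwu.exists_right_inv
    refine ⟨X.presheaf.germ W P hPW (ro le_top (i κ) * w'), ?_⟩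
    show X.presheaf.stalkSpecializes _ _ = _
    rw [TopCat.Presheaf.germ_stalkSpecializes_apply, ← germ_ro (inf_le_left : W ⊓ U ≤ W) hη, ← map_mul]
    congr 1
    rw [ro_mul, ro_ro, show ro (le_top : W ⊓ U ≤ ⊤) (i κ) = ro (inf_le_right : W ⊓ U ≤ U) v by
      rw [← hκ, ro_ro], ← hprod, mul_assoc, ← ro_mul, hw', ro_one, _root_.mul_one]
  obtain ⟨b, hb⟩ := hb
  have key : ∀ (N : X.Modules), PicF.IsInvertible N → Curv2.deg k X N 1 = 0 → ∀ (e₀ : Γ(N, U)) (f₀ : Γ(N, W))
      (c₀ : Γ(X, W ⊓ U)), IsFrame N U e₀ → c₀ • rs N inf_le_left f₀ = rs N inf_le_right e₀ →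
      (∃ a, algebraMap (X.presheaf.stalk P) X.functionField a = X.presheaf.germ _ _ hη c₀) →
      Nonempty (Coh.structureModule X ≅ N) := fun N hN hd e₀ f₀ c₀ he₀ hc₀ ⟨a, ha⟩ => by
    obtain ⟨t, ht⟩ := exists_extend hU hPW hη c₀ a ha
    let O : ULift.{u} Bool → X.Opens := fun i => cond i.down U W
    let s : ∀ i, Γ(N, O i) := fun i => match i with
      | ⟨true⟩ => e₀
      | ⟨false⟩ => t • f₀
    have hag : rs N (inf_le_left : W ⊓ U ≤ W) (t • f₀) = rs N (inf_le_right : W ⊓ U ≤ U) e₀ := by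
      rw [rs_smul, ht]
      exact hc₀
    obtain ⟨σ, hσ⟩ := Groth.L21.Extend.exists_glue N O ⊤ (fun i => le_top)
      (fun y _ => by
        by_cases hy : y = P
        · exact ⟨⟨false⟩, hy ▸ hPW⟩
        · exact ⟨⟨true⟩, (hU y).2 hy⟩) s (by
        rintro ⟨⟨⟩⟩ ⟨⟨⟩⟩
        · rfl
        · exact hag
        · show rs N (inf_le_left : U ⊓ W ≤ U) e₀ = rs N (inf_le_right : U ⊓ W ≤ W) (t • f₀)
          have h := congrArg (rs N (le_inf inf_le_right inf_le_left : U ⊓ W ≤ W ⊓ U)) hag.symm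
          rw [rs_rs, rs_rs] at h
          exact h
        · rfl)
    have hσ0 : σ ≠ 0 := fun h0 => by
      have h1 : rs N le_top σ = e₀ := hσ ⟨true⟩
      rw [h0, rs_zero] at h1
      refine one_ne_zero (α := Γ(X, U)) (he₀.inj le_rfl ?_)
      rw [← h1, rs_zero, smul_zero, smul_zero]
    let φ := Groth.L16.homOfSection N σ
    have hφ : φ ≠ 0 := fun h => hσ0 (by
      rw [← Groth.L18.GenLoc.secOf_homOfSection σ, show Groth.L16.homOfSection N σ = 0 from h]; rfl)
    obtain ⟨h1, h2⟩ := Groth.L22.CurveDeg.deg_add k hdim.le (Groth.L18.Ample.isInvertible_structureModule X) hN hφ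
    rw [hd, Groth.L22.CurveDeg.deg_structure] at h1
    haveI := h2 (by omega)
    exact ⟨asIso φ⟩
  rcases regular_or_regular k hdim hP _ _ b hb with h | h
  · exact Or.inl (key L hL hdL e f c he hc h)
  · exact Or.inr (key M hM hdM e' f' c' he' hc' h)

end Groth.L21.AffCd
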