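import Groth.Agent.S0204
import Groth.Agent.L27.PBC.CurveField
import Groth.Agent.L28.EtCartan.Zar
import Groth.Agent.L19.Approx.Zmt
import Groth.Agent.L19.IntegralHom
import Mathlib.AlgebraicGeometry.Morphisms.QuasiFinite

/-! # Affine curves over separably closed fields, and the Zariski restriction -/

set_option autoImplicit false
set_option linter.style.haveILetI false
set_option linter.unusedSectionVars false
set_option backward.isDefEq.respectTransparency.types false

universe u

open CategoryTheory CategoryTheory.Limits AlgebraicGeometry Opposite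

noncomputable section

namespace Groth.L21.AffCd

variable {k : Type u} [Field k] [IsSepClosed k]

/-- Torsion cohomology of an affine curve over a separably closed field vanishes above degree one. -/
theorem cohDimLE_one_of_affine {Z : Scheme.{u}} [IsAffine Z] (f : Z ⟶ Spec (CommRingCat.of k))
    [LocallyOfFiniteType f] (hdim : topologicalKrullDim Z ≤ 1) : EtCoh.CohDimLE Z 1 := by
  intro F hF q hq
  obtain ⟨_, _, _⟩ := Groth.L27.PBC.toBase_props f
  haveI := Groth.L27.EtSite.preservesFiniteLimits_pull (Groth.L27.PBC.toBase f)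
  haveI : IsAffine (pullback f (Groth.L27.PBC.kbar k)) := inferInstance
  haveI := Groth.Agent.S0204.result (AlgebraicClosure k) _ (pullback.snd f (Groth.L27.PBC.kbar k))
    (Groth.L27.PBC.dim_bar f hdim)
    ((EtCoh.pull (Groth.L27.PBC.toBase f)).obj F) (Groth.L28.CurveCd.isTorsion_pull _ hF) q hq
  exact (Groth.Agent.S0642.result (Groth.L27.PBC.toBase f) F q).injective.subsingleton

variable {C : Scheme.{u}} (f : C ⟶ Spec (CommRingCat.of k)) [LocallyOfFiniteType f] [QuasiCompact f]

include f in
theorem subsingleton_affine_etale (hdim : topologicalKrullDim C ≤ 1) (T : C.Etale) [IsAffine T.left]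
    (F : EtCoh.Ab C) (hF : EtCoh.IsTorsion F) (i : ℕ) (hi : 1 < i) :
    Subsingleton (EtCoh.H T.left ((EtCoh.pull T.hom).obj F) i) := by
  let h : T.left ⟶ C := T.hom
  haveI : AlgebraicGeometry.Etale h := T.prop
  haveI : IsLocallyNoetherian C := LocallyOfFiniteType.isLocallyNoetherian f
  haveI : CompactSpace ↥C := QuasiCompact.compactSpace_of_compactSpace f
  haveI : QuasiCompact h := quasiCompact_of_compactSpace h
  haveI : IsSeparated (h ≫ terminal.from C) := by rw [terminal.comp_from]; infer_instance
  haveI : IsSeparated h := IsSeparated.of_comp h (terminal.from C)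
  obtain ⟨Z, j, π, _, _, _, hjπ⟩ := Groth.L19.Approx.exists_openImmersion_finite h
  haveI : LocallyOfFiniteType (h ≫ f) := inferInstance
  exact cohDimLE_one_of_affine (h ≫ f) (j.isOpenEmbedding.isEmbedding.isInducing.topologicalKrullDim_le.trans
    ((Groth.L19.topologicalKrullDim_le_of_isIntegralHom π).trans hdim)) _
    (Groth.L28.CurveCd.isTorsion_pull h hF) i hi

include f in
theorem isZero_rightDerived_resZar (hdim : topologicalKrullDim C ≤ 1) [EtZar.ZarCont C] [(EtZar.resZar C).Additive]
    (F : EtCoh.Ab C) (hF : EtCoh.IsTorsion F) (n : ℕ) :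
    IsZero (((EtZar.resZar C).rightDerived (n + 2)).obj F) := by
  obtain ⟨S, hS, hI, rfl⟩ := Groth.L28.Supp.exists_presentation F
  haveI := hI
  have hA : Groth.L28.EtCartan.AffVanish C S.X₃ := by
    intro T hT i hi
    let v : T.left ⟶ C := T.hom
    haveI : AlgebraicGeometry.Etale v := T.prop
    haveI := Groth.L27.ExtZero.jCont v
    haveI : PreservesLimitsOfSize.{0, 0} (EtShriek.restrAlong v) := (EtShriek.extZeroAdj v).rightAdjoint_preservesLimits
    haveI : PreservesColimitsOfSize.{0, 0} (EtShriek.restrAlong v) := (Groth.L27.ExtZero.restrAdj v).leftAdjoint_preservesColimits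
    have hR : (S.map (EtShriek.restrAlong v)).ShortExact := hS.map_of_exact _
    haveI : Injective (S.map (EtShriek.restrAlong v)).X₂ := Groth.L27.ExtZero.injective_restrAlong v S.X₂
    haveI : Subsingleton (EtCoh.H T.left (S.map (EtShriek.restrAlong v)).X₁ (i + 1)) :=
      @Function.Injective.subsingleton _ _ _
        ((EtCoh.HF T.left (i + 1)).mapIso ((Groth.L27.ExtZero.pullRestr v).app S.X₁)).addCommGroupIsoToAddEquiv.symm.injective
        (subsingleton_affine_etale f hdim T S.X₁ hF (i + 1) (by omega))
    haveI : Subsingleton (EtCoh.H T.left ((EtShriek.restrAlong v).obj S.X₃) i) := by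
      obtain ⟨m, rfl⟩ : ∃ m, i = m + 1 := ⟨i - 1, by omega⟩
      refine subsingleton_of_forall_eq 0 fun y => ?_
      obtain ⟨z, rfl⟩ := Abelian.Ext.covariant_sequence_exact₃ _ hR y rfl (Subsingleton.elim _ _)
      rw [Abelian.Ext.eq_zero_of_injective z]
      exact Abelian.Ext.zero_comp _ _ _ _ _
    exact @Function.Injective.subsingleton _ _ _
      ((EtCoh.HF T.left i).mapIso ((Groth.L27.ExtZero.pullRestr v).app S.X₃)).addCommGroupIsoToAddEquiv.injective ‹_›
  have h3 : IsZero (((EtZar.resZar C).rightDerived (n + 1)).obj S.X₃) :=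
    Groth.L28.EtCartan.isZero_rightDerived_resZar C (Groth.L28.EtCartan.AffVanish C)
      (fun T hT h U hU => haveI := Groth.L28.EtCartan.isAffine_zarToEt C hU
        Groth.L28.EtCartan.affVanish_surjective hT h _)
      (fun T hT hI h => haveI := hI; Groth.L28.EtCartan.affVanish_X₃ hT h) n S.X₃ hA
  haveI : PreservesFiniteLimits (EtZar.resZar C) :=
    haveI := (Groth.L28.EtCartan.zarAdj C).rightAdjoint_preservesLimits
    inferInstance
  letI := HasDerivedCategory.standard (EtCoh.Ab C)
  letI := HasDerivedCategory.standard (EtZar.Ab C)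
  haveI : Epi (((EtZar.resZar C).rightDerived (n + 1)).map S.g) := ⟨fun a b _ => h3.eq_of_src a b⟩
  exact Groth.L00.RDerLES.isZero_X₁ (EtZar.resZar C) hS (n + 1)
    ((EtZar.resZar C).isZero_rightDerived_obj_injective_succ (n + 1) S.X₂)

end Groth.L21.AffCd
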