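import Groth.Agent.L21.AffCd.Completion
import Groth.Agent.L21.AffCd.Birational
import Groth.Agent.L21.CurveKummer.Main
import Groth.Agent.L03.InterLen.Main
import Groth.Agent.Lead.TwistGen
import Groth.Agent.L21.SmoothCurveDim
import Groth.Agent.L05.PtSeq.Curves
import Groth.Agent.S0227
import Groth.Agent.S0234

/-!
# Roots of unity on smooth affine curves
-/

set_option autoImplicit false
set_option linter.style.haveILetI false
set_option linter.unusedSectionVars false
set_option backward.isDefEq.respectTransparency false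
set_option backward.isDefEq.respectTransparency.types false

universe u

open CategoryTheory CategoryTheory.Limits AlgebraicGeometry Opposite CategoryTheory.Abelian
open EtSix

noncomputable section

namespace Groth.L21.AffCd

attribute [local instance] Groth.Agent.AV.InterPic.picLaw

variable {k : Type u} [Field k] [IsAlgClosed k]

/-- Pullback of classes of invertible modules. -/
def pullPic {Y Z : Scheme.{u}} (g : Z ⟶ Y) : Additive (PicLoc.PicSet Y) →+ Additive (PicLoc.PicSet Z) :=
  MonoidHom.toAdditive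
    { toFun := fun c => ⟨PicF.pullCl g c.1, by
        obtain ⟨L, hL, hLi⟩ := c.2
        exact ⟨_, (congrArg (PicF.pullCl g) hL : _), Groth.L18.Ample.isInvertible_pullback g hLi⟩⟩
      map_one' := Subtype.ext (by
        show PicF.pullCl g (1 : PicLoc.PicSet Y).1 = (1 : PicLoc.PicSet Z).1
        rw [PicGrp.one_val, PicGrp.one_val]
        exact Groth.L08.Cube.pullCl_one g)
      map_mul' := fun a b => Subtype.ext (by
        show PicF.pullCl g (a * b).1 = _
        rw [PicGrp.mul_val, PicGrp.mul_val]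
        exact Groth.L08.Cube.pullCl_mul g a.1 b.1) }

/-- A class of degree one supported at a point restricts to zero off it. -/
theorem exists_point_class {U Xb : Scheme.{u}} (j : U ⟶ Xb) [IsOpenImmersion j] [Xb.Over (Spec (CommRingCat.of k))]
    [IsIntegral Xb] [IsProper (Xb ↘ Spec (CommRingCat.of k))] [Smooth (Xb ↘ Spec (CommRingCat.of k))]
    [Nonempty U] (hdim : topologicalKrullDim Xb = 1) {P : Xb} (hP : P ∉ Set.range j.base) (hPc : IsClosed ({P} : Set Xb)) :
    ∃ (L : Xb.Modules) (hL : PicF.IsInvertible L), Curv2.deg k Xb L 1 = 1 ∧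
      pullPic j (Additive.ofMul (PicGrp.cls L hL)) = 0 := by
  let f := Xb ↘ Spec (CommRingCat.of k)
  haveI := Groth.L21.RR.isNoetherian_of_proper (X := Xb) k
  have hreg : ∀ x : Xb, IsDomain (Xb.presheaf.stalk x) ∧
      (IsLocalRing.maximalIdeal (Xb.presheaf.stalk x)).IsPrincipal := fun x => by
    haveI := Groth.L21.Smooth.regular_stalk f x
    exact ⟨inferInstance, Groth.L21.SmoothDescent.isPrincipal_of_dim_le_one
      ((Groth.L21.SmoothDescent.ringKrullDim_stalk_le x).trans hdim.le)⟩
  have hufd : ∀ x : Xb, x ∉ j.opensRange → UniqueFactorizationMonoid (Xb.presheaf.stalk x) := fun x _ => by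
    obtain ⟨_, hp⟩ := hreg x
    haveI : IsPrincipalIdealRing (Xb.presheaf.stalk x) :=
      (tfae_of_isNoetherianRing_of_isLocalRing_of_isDomain (Xb.presheaf.stalk x)).out 4 0 |>.mp hp
    infer_instance
  have hPgen : P ≠ genericPoint Xb := fun h => hP (by
    rw [h]
    haveI : IsIntegral U := isIntegral_of_isOpenImmersion j
    exact ⟨genericPoint U, genericPoint_eq_of_isOpenImmersion j⟩)
  obtain ⟨L, s, -, -, hL, hdeg, -, hs, -⟩ := Groth.L21.RR.exists_deg_one_section k hdim.le hPc hPgen
    (Groth.L21.RR.isRat_of_isClosed k hPc) (hreg P).2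
  refine ⟨L, hL, hdeg, ?_⟩
  haveI : IsIso ((Scheme.Modules.restrictFunctor j.opensRange.ι).map s) := by
    refine Groth.Lead.TwistGen.isIso_restrict_of_stalk _ s fun x hx => ?_
    refine (ConcreteCategory.isIso_iff_bijective _).2 ?_
    have hsx : Function.Surjective (Groth.L21.RR.st s x) := hs x fun e => hP (e ▸ hx)
    obtain ⟨a, ha⟩ := Groth.L21.RR.exists_frame_stalk
      (Groth.L18.Ample.isInvertible_structureModule Xb) x
    obtain ⟨b, hb⟩ := Groth.L21.RR.exists_frame_stalk hL x
    obtain ⟨r, hr⟩ := hb.2 (Groth.L21.RR.st s x a)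
    obtain ⟨v, hv⟩ := hsx b
    obtain ⟨t, rfl⟩ := ha.2 v
    have hcr : t * r = 1 := hb.1 (by
      show (t * r) • b = (1 : Xb.presheaf.stalk x) • b
      rw [mul_smul, one_smul, show r • b = Groth.L21.RR.st s x a from hr, ← map_smul, hv])
    refine ⟨fun v w hvw => ?_, hsx⟩
    obtain ⟨y, rfl⟩ := ha.2 v
    obtain ⟨z, rfl⟩ := ha.2 w
    have h1 : Groth.L21.RR.st s x (y • a) = Groth.L21.RR.st s x (z • a) := hvw
    rw [map_smul, map_smul, ← show r • b = Groth.L21.RR.st s x a from hr, ← mul_smul, ← mul_smul] at h1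
    have h2 : y * r = z * r := hb.1 h1
    have h3 : y = z := by
      have := congrArg (· * t) h2
      simpa [mul_assoc, mul_comm r t, hcr] using this
    rw [h3]
  apply Additive.toMul.injective
  apply Subtype.ext
  show PicF.pullCl j (PicF.cl L) = ((1 : PicLoc.PicSet U) : PicLoc.PicSet U).1
  rw [PicGrp.one_val, show j = j.isoOpensRange.hom ≫ j.opensRange.ι from (Scheme.Hom.isoOpensRange_hom_ι j).symm,
    PicLoc.pullCl_comp]
  have e1 : PicF.pullCl j.opensRange.ι (PicF.cl L) =
      PicF.pullCl j.opensRange.ι (PicF.cl (Coh.structureModule Xb)) :=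
    (PicGrp.cl_eq_cl_iff _ _).2
      ⟨(((Scheme.Modules.restrictFunctorIsoPullback j.opensRange.ι).app L).symm ≪≫
        (asIso ((Scheme.Modules.restrictFunctor j.opensRange.ι).map s)).symm ≪≫
        (Scheme.Modules.restrictFunctorIsoPullback j.opensRange.ι).app _)⟩
  rw [e1, ← PicLoc.pullCl_comp]
  exact Groth.L08.Cube.pullCl_one _

/-- Classes on an open of a smooth proper curve extend. -/
theorem surjective_pullPic {U Xb : Scheme.{u}} (j : U ⟶ Xb) [IsOpenImmersion j] [Xb.Over (Spec (CommRingCat.of k))]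
    [IsIntegral Xb] [IsProper (Xb ↘ Spec (CommRingCat.of k))] [Smooth (Xb ↘ Spec (CommRingCat.of k))]
    [Nonempty U] (hdim : topologicalKrullDim Xb = 1) : Function.Surjective (pullPic j) := fun c => by
  let f := Xb ↘ Spec (CommRingCat.of k)
  haveI := Groth.L21.RR.isNoetherian_of_proper (X := Xb) k
  have hreg : ∀ x : Xb, IsDomain (Xb.presheaf.stalk x) ∧
      (IsLocalRing.maximalIdeal (Xb.presheaf.stalk x)).IsPrincipal := fun x => by
    haveI := Groth.L21.Smooth.regular_stalk f x
    exact ⟨inferInstance, Groth.L21.SmoothDescent.isPrincipal_of_dim_le_one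
      ((Groth.L21.SmoothDescent.ringKrullDim_stalk_le x).trans hdim.le)⟩
  have hufd : ∀ x : Xb, x ∉ j.opensRange → UniqueFactorizationMonoid (Xb.presheaf.stalk x) := fun x _ => by
    obtain ⟨_, hp⟩ := hreg x
    haveI : IsPrincipalIdealRing (Xb.presheaf.stalk x) :=
      (tfae_of_isNoetherianRing_of_isLocalRing_of_isDomain (Xb.presheaf.stalk x)).out 4 0 |>.mp hp
    infer_instance
  obtain ⟨M, hM, hc⟩ := PicGrp.exists_eq_cls (Additive.toMul c)
  have hMi := Groth.L18.Ample.isInvertible_pullback j.isoOpensRange.inv hM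
  obtain ⟨M', hM', ⟨e⟩⟩ := Groth.Agent.S0234.result Xb j.opensRange _ hMi hufd
  let a : Additive (PicLoc.PicSet Xb) := Additive.ofMul (PicGrp.cls M' hM')
  have ha : pullPic j a = c := by
    apply Additive.toMul.injective
    rw [hc]
    apply Subtype.ext
    show PicF.pullCl j (PicF.cl M') = PicF.cl M
    rw [show j = j.isoOpensRange.hom ≫ j.opensRange.ι from (Scheme.Hom.isoOpensRange_hom_ι j).symm,
      PicLoc.pullCl_comp]
    have e1 : PicF.pullCl j.opensRange.ι (PicF.cl M') = PicF.pullCl j.isoOpensRange.inv (PicF.cl M) :=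
      (PicGrp.cl_eq_cl_iff _ _).2 ⟨((Scheme.Modules.restrictFunctorIsoPullback j.opensRange.ι).app M').symm ≪≫ e⟩
    rw [e1, ← PicLoc.pullCl_comp, Iso.hom_inv_id, PicLoc.pullCl_id]
  exact ⟨a, ha⟩

/-- The Picard group of the complement of a nonempty set of points of a smooth proper curve is divisible. -/
theorem pic_divisible {U Xb : Scheme.{u}} (j : U ⟶ Xb) [IsOpenImmersion j] [Xb.Over (Spec (CommRingCat.of k))]
    [IsIntegral Xb] [IsProper (Xb ↘ Spec (CommRingCat.of k))] [Smooth (Xb ↘ Spec (CommRingCat.of k))]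
    [Nonempty U] (hdim : topologicalKrullDim Xb = 1) {P : Xb} (hP : P ∉ Set.range j.base) (hPc : IsClosed ({P} : Set Xb))
    (n : ℕ) (hn : 1 ≤ n) (c : Additive (PicLoc.PicSet U)) : ∃ z, n • z = c := by
  obtain ⟨L, hL, hdeg, hres⟩ := exists_point_class (k := k) j hdim hP hPc
  obtain ⟨d, hd, -, hdiv⟩ := Groth.L21.CurveKummer.exists_degHom' k Xb hdim
  obtain ⟨a, ha⟩ := surjective_pullPic (k := k) j hdim c
  let t : Additive (PicLoc.PicSet Xb) := Additive.ofMul (PicGrp.cls L hL)
  have hdt : d t = 1 := (hd L hL).trans hdeg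
  obtain ⟨z, hz⟩ := hdiv (a - d a • t) (by
    rw [map_sub, map_zsmul, hdt, smul_eq_mul, _root_.mul_one, sub_self]) n hn
  refine ⟨pullPic j z, ?_⟩
  rw [← map_nsmul, hz, map_sub, map_zsmul, hres, zsmul_zero, sub_zero, ha]

/-- The second cohomology of the roots of unity of a normal affine curve vanishes. -/
theorem subsingleton_H2_mu {U : Scheme.{u}} [IsIntegral U] [IsAffine U] (f : U ⟶ Spec (CommRingCat.of k))
    [LocallyOfFiniteType f] (hdim : topologicalKrullDim U = 1) (hN : Pi1.IsNormalScheme U)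
    (n : ℕ) [NeZero n] (hn : (n : k) ≠ 0) : Subsingleton (EtCoh.H U (EtCoh.mu U n) 2) := by
  obtain ⟨Xb, p, j, hj, hXb, hjp, P, hP, hPc⟩ := exists_completion f hdim hN
  obtain ⟨hp, hs, hi, hd⟩ := hXb
  letI : Xb.Over (Spec (CommRingCat.of k)) := ⟨p⟩
  haveI : IsProper (Xb ↘ Spec (CommRingCat.of k)) := hp
  haveI : Smooth (Xb ↘ Spec (CommRingCat.of k)) := hs
  haveI := hi
  haveI : Smooth f := smooth_of_normal f hdim.le hN
  haveI : IsSeparated f := inferInstance
  haveI : QuasiCompact f := inferInstance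
  let i : k →+* Γ(U, ⊤) := ((Scheme.ΓSpecIso (CommRingCat.of k)).inv ≫ f.appTop).hom
  have hu : IsUnit (n : Γ(U, ⊤)) := by
    have := (isUnit_iff_ne_zero.2 hn).map i
    rwa [map_natCast] at this
  have h := Groth.L28.GmTorsion.epi_powMap hu
  obtain ⟨e⟩ := Groth.L28.GmH1.nonempty_equiv_pic U
  refine subsingleton_of_forall_eq 0 fun x => ?_
  haveI : Subsingleton (EtCoh.H U (EtCoh.Gm U) 2) := Groth.Agent.S0227.result k U f hdim 2 le_rfl
  obtain ⟨y, hy⟩ := Ext.covariant_sequence_exact₁ _ (kummerShortExact h) x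
    (Subsingleton.elim (α := EtCoh.H U (EtCoh.Gm U) 2) _ _) (show 1 + 1 = 2 from rfl)
  obtain ⟨z, hz⟩ := pic_divisible (k := k) j hd hP hPc n (NeZero.pos n) (e.symm y)
  rw [← hy, show y = n • e z by rw [← map_nsmul, hz, e.apply_symm_apply],
    ← Groth.L28.GmTorsion.comp_mk₀_powMap n 1 (e z)]
  refine (Ext.comp_assoc_of_second_deg_zero (e z) _ _ _).trans ?_
  refine Eq.trans ?_ (Ext.comp_zero (e z) _ 1 _ (show 1 + 1 = 2 from rfl))
  exact congrArg (fun w => (e z).comp w (show 1 + 1 = 2 from rfl)) (kummerShortExact h).comp_extClass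

/-- The constants on a normal affine curve have no second cohomology. -/
theorem subsingleton_H2_const_normal (p : ℕ) [NeZero p] (hp : (p : k) ≠ 0) (B : Type u) [CommRing B] [IsDomain B]
    [IsIntegrallyClosed B] (h : Spec (CommRingCat.of B) ⟶ Spec (CommRingCat.of k)) [LocallyOfFiniteType h]
    (hdim : topologicalKrullDim ↥(Spec (CommRingCat.of B)) ≤ 1) :
    Subsingleton (EtCoh.H (Spec (CommRingCat.of B)) (EtCoh.const _ (ZMod p)) 2) := by
  haveI : QuasiCompact h := inferInstance
  haveI : IsLocallyNoetherian (Spec (CommRingCat.of B)) := LocallyOfFiniteType.isLocallyNoetherian h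
  by_cases hd : topologicalKrullDim ↥(Spec (CommRingCat.of B)) = 1
  · obtain ⟨e⟩ := Groth.L21.CurveKummer.nonempty_const_iso_mu h p hp
    exact (Groth.L21.CurveKummer.congrH e 2).toEquiv.subsingleton_congr.2
      (subsingleton_H2_mu h hd (isNormalScheme_Spec B) p hp)
  · refine Groth.L28.CurveCd.subsingleton_H_of_supp_closed h _ (fun y _ => ?_) 1
    by_contra hy
    refine hd (le_antisymm hdim ?_)
    exact Groth.L05.PtSeq.one_le_dim fun hc => hy (by
      rcases eq_or_ne y (genericPoint ↥(Spec (CommRingCat.of B))) with rfl | hne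
      · exact hc
      · exact (Groth.L28.CurveCd.isClosed_or_maximal hdim y).resolve_right fun hm =>
          hne (hm _ (genericPoint_specializes y)).symm)

/-- The constants on an affine curve have no second cohomology. -/
theorem subsingleton_H2_const (p : ℕ) [NeZero p] (hp : (p : k) ≠ 0) {Y : Scheme.{u}} [IsAffine Y]
    (g : Y ⟶ Spec (CommRingCat.of k)) [LocallyOfFiniteType g] (hdim : topologicalKrullDim Y ≤ 1) :
    Subsingleton (EtCoh.H Y (EtCoh.const Y (ZMod p)) 2) :=
  subsingleton_const_of_normal (ZMod p) (fun B _ _ _ h _ => subsingleton_H2_const_normal p hp B h) g hdim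

end Groth.L21.AffCd
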