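import Groth.Agent.L21.AffCd.Atom
import Groth.Agent.L21.TopDeg.ArtinSchreier
import Groth.Agent.L27.PBC.ProperCd
import Groth.Agent.L02.RelDim.FlatLft

/-!
# The top degree of primary torsion cohomology in characteristic `p`
-/

set_option autoImplicit false
set_option linter.style.haveILetI false
set_option linter.unusedSectionVars false
set_option backward.isDefEq.respectTransparency.types false

universe u

open CategoryTheory CategoryTheory.Limits AlgebraicGeometry Opposite CategoryTheory.Abelian TopologicalSpace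

noncomputable section

namespace Groth.L21.AffCd

/-- The complement of a dense open has smaller dimension. -/
theorem dim_compl_le {Z D : Scheme.{u}} [AlgebraicGeometry.IsNoetherian Z] (U : Z.Opens) (hU : Dense (U : Set Z))
    (ι : D ⟶ Z) [IsClosedImmersion ι] (hι : Set.range ι.base = (U : Set Z)ᶜ) (n : ℕ)
    (hdim : topologicalKrullDim Z ≤ n) :
    topologicalKrullDim D ≤ ((n - 1 : ℕ) : WithBot ℕ∞) ∧ (Nonempty D → 1 ≤ n) := by
  let _ := specializationOrder Z
  let _ := specializationOrder D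
  have key : ∀ l : LTSeries D, l.length + 1 ≤ n := fun l => by
    obtain ⟨u, huU, hu⟩ := L02.RelDim.exists_generization_mem hU
      (fun W _ _ => NoetherianSpace.isCompact _) (ι l.last)
    have hmono : StrictMono ι.base := fun a b hab =>
      lt_of_le_of_ne (show ι b ⤳ ι a from (show b ⤳ a from hab.le).map ι.continuous)
        fun e => hab.ne (ι.isClosedEmbedding.injective e)
    have hne : ι l.last ≠ u := fun e => by
      have h : u ∈ (U : Set Z)ᶜ := hι ▸ ⟨l.last, e⟩
      exact h huU
    have h := Order.LTSeries.length_le_krullDim ((l.map ι.base hmono).snoc u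
      (lt_of_le_of_ne (α := ↥Z) hu hne))
    rw [← Groth.L19.topologicalKrullDim_eq_krullDim] at h
    have h2 := h.trans hdim
    exact_mod_cast h2
  refine ⟨?_, fun ⟨z⟩ => Nat.le_of_add_left_le (key (RelSeries.singleton _ z))⟩
  rw [Groth.L19.topologicalKrullDim_eq_krullDim]
  refine iSup_le fun l => ?_
  have := key l
  exact_mod_cast (show l.length ≤ n - 1 by omega)

/-- Inverse images of primary torsion sheaves are primary torsion. -/
theorem primary_pull {X Y : Scheme.{u}} (f : Y ⟶ X) (p : ℕ) (F : EtCoh.Ab X)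
    (hF : ∀ (U : X.Etale) (s : EtCoh.sect F U) (x : U.left), ∃ (V : X.Etale) (g : V ⟶ U),
      (∃ v : V.left, g.left.base v = x) ∧ ∃ n : ℕ, (p ^ n) • (F.obj.map g.op s) = 0) :
    ∀ (U : Y.Etale) (s : EtCoh.sect ((EtCoh.pull f).obj F) U) (x : U.left), ∃ (V : Y.Etale) (g : V ⟶ U),
      (∃ v : V.left, g.left.base v = x) ∧ ∃ n : ℕ, (p ^ n) • (((EtCoh.pull f).obj F).obj.map g.op s) = 0 := by
  intro U s u
  obtain ⟨Ω, _, _, η, hη⟩ := Groth.L27.EtSite.exists_geometric_point (U.hom.base u)
  obtain ⟨y, hy⟩ := Groth.L27.EtSite.exists_fiber η U u hη.symm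
  let z : (EtCoh.stalk η).obj ((EtCoh.pull f).obj F) :=
    (Scheme.pointSmallEtale η).toPresheafFiber U y ((EtCoh.pull f).obj F).obj s
  have hfin : ∃ n : ℕ, (p ^ n) • z = 0 := by
    let e := ((Groth.L27.EtSite.stalkPullIso f η).app F).addCommGroupIsoToAddEquiv
    obtain ⟨V, x, t, ht⟩ := (Scheme.pointSmallEtale (η ≫ f)).toPresheafFiber_jointly_surjective (P := F.obj) (e z)
    obtain ⟨W, g, ⟨w, hw⟩, n, hn0⟩ := hF V t (x.left.base (default : Spec (CommRingCat.of Ω)))
    refine ⟨n, ?_⟩
    let Wx : Scheme.Etale V.left := @Scheme.Etale.mk _ _ g.left (Groth.L27.EtSite.etale_left g)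
    obtain ⟨x', hx'⟩ := Groth.L27.EtSite.exists_fiber x.left Wx w hw
    let xW : (Scheme.pointSmallEtale (η ≫ f)).fiber.obj W := Over.homMk x'.left
      ((congrArg (x'.left ≫ ·) (MorphismProperty.Over.w g).symm).trans
        ((Category.assoc _ _ _).symm.trans ((congrArg (· ≫ V.hom) (Over.w x')).trans (Over.w x))))
    have hxW : (Scheme.pointSmallEtale (η ≫ f)).fiber.map g xW = x := Over.OverMorphism.ext (Over.w x')
    refine e.injective ?_
    rw [map_nsmul, map_zero, ← ht, ← hxW]
    refine (map_nsmul ((Scheme.pointSmallEtale (η ≫ f)).toPresheafFiber V _ F.obj).hom (p ^ n) t).symm.trans ?_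
    refine ((Scheme.pointSmallEtale (η ≫ f)).toPresheafFiber_w_apply g xW F.obj ((p ^ n) • t)).symm.trans ?_
    rw [map_nsmul, hn0, map_zero]
    rfl
  obtain ⟨n, hn0⟩ := hfin
  obtain ⟨W, g, y', hy', he⟩ := ((Scheme.pointSmallEtale η).toPresheafFiber_eq_iff' U y ((p ^ n) • s) 0).1
    (((map_nsmul _ (p ^ n) s).trans hn0).trans (map_zero _).symm)
  refine ⟨W, g, ⟨y'.left.base (default : Spec (CommRingCat.of Ω)), by rw [← hy, ← hy']; rfl⟩, n, ?_⟩
  rw [← map_nsmul]
  exact he.trans (map_zero _)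

variable {k : Type u} [Field k] [IsSepClosed k] {X : Scheme.{u}} (f : X ⟶ Spec (CommRingCat.of k))
  [IsSeparated f] [LocallyOfFiniteType f] [QuasiCompact f]

include f in
/-- Atoms in characteristic `p` have no cohomology above the dimension. -/
theorem subsingleton_atom_top (p : ℕ) [Fact p.Prime] [CharP k p] (n : ℕ) (hdim : topologicalKrullDim X ≤ n)
    (q : ℕ) (hq : n < q) (V : X.Etale) [IsAffine V.left] :
    Subsingleton (EtCoh.H X (EtPBC.extZeroConst V (ZMod p)) q) := by
  haveI : CompactSpace ↥X := QuasiCompact.compactSpace_of_compactSpace f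
  haveI : QuasiSeparatedSpace ↥X := quasiSeparatedSpace_of_quasiSeparated f
  let h : V.left ⟶ X := V.hom
  haveI : AlgebraicGeometry.Etale h := V.prop
  haveI : IsSeparated (h ≫ f) := inferInstance
  haveI : IsSeparated h := IsSeparated.of_comp h f
  haveI : QuasiCompact h := quasiCompact_of_compactSpace h
  haveI := Groth.L27.ExtZero.jCont h
  obtain ⟨T, j, π, _, _, _, hjπ⟩ := Groth.L19.Approx.exists_openImmersion_finite h
  let Z := j.image
  let a : V.left ⟶ Z := j.toImage
  let ν : Z ⟶ X := j.imageι ≫ π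
  haveI : IsOpenImmersion a := inferInstanceAs (IsOpenImmersion j.toImage)
  haveI : IsDominant a := inferInstanceAs (IsDominant j.toImage)
  haveI : IsFinite ν := inferInstanceAs (IsFinite (j.imageι ≫ π))
  have haν : h = a ≫ ν := by
    rw [show a ≫ ν = (j.toImage ≫ j.imageι) ≫ π from (Category.assoc _ _ _).symm, Scheme.Hom.toImage_imageι, hjπ]
  haveI := Groth.L27.ExtZero.jCont a
  let g : Z ⟶ Spec (CommRingCat.of k) := ν ≫ f
  haveI : IsSeparated g := inferInstanceAs (IsSeparated (ν ≫ f))
  haveI : LocallyOfFiniteType g := inferInstanceAs (LocallyOfFiniteType (ν ≫ f))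
  haveI : QuasiCompact g := inferInstanceAs (QuasiCompact (ν ≫ f))
  have hdimZ : topologicalKrullDim Z ≤ n := (Groth.L19.topologicalKrullDim_le_of_isIntegralHom ν).trans hdim
  haveI : IsLocallyNoetherian Z := LocallyOfFiniteType.isLocallyNoetherian g
  haveI : CompactSpace ↥Z := QuasiCompact.compactSpace_of_compactSpace g
  haveI : AlgebraicGeometry.IsNoetherian Z := {}
  let 𝓘 : Scheme.IdealSheafData Z :=
    Scheme.IdealSheafData.vanishingIdeal ⟨(a.opensRange : Set Z)ᶜ, a.opensRange.isOpen.isClosed_compl⟩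
  let ι : 𝓘.subscheme ⟶ Z := 𝓘.subschemeι
  haveI : IsClosedImmersion ι := inferInstanceAs (IsClosedImmersion 𝓘.subschemeι)
  have hι : Set.range ι.base = (a.opensRange : Set Z)ᶜ := by
    show Set.range 𝓘.subschemeι = _
    rw [Scheme.IdealSheafData.range_subschemeι]
    exact Scheme.IdealSheafData.coe_support_vanishingIdeal _
  obtain ⟨hdD, hne⟩ := dim_compl_le a.opensRange
    (by rw [Scheme.Hom.coe_opensRange]; exact a.denseRange) ι hι n hdimZ
  let C := EtCoh.const Z (ZMod p)
  obtain ⟨w, hE⟩ := Groth.L27.ExtZero.exists_shortExact_recollement a ι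
    (by rw [hι, compl_compl, Scheme.Hom.coe_opensRange]) C
  obtain ⟨q, rfl⟩ : ∃ i, q = i + 1 := ⟨q - 1, by omega⟩
  have h3 : Subsingleton (EtCoh.H Z ((EtCoh.push ι).obj ((EtCoh.pull ι).obj C)) q) := by
    refine Groth.L27.PBC.subsingleton_H_push_finite ι _ q ?_
    rcases isEmpty_or_nonempty 𝓘.subscheme with hD | hD
    · haveI := hD
      exact AddCommGrpCat.subsingleton_of_isZero ((EtCoh.HF _ q).map_isZero
        ((Groth.L27.EtSite.isZero_iff_stalks _).2 fun Ω _ _ ξ => isEmptyElim (ξ default)))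
    · have hn := hne hD
      obtain ⟨m, rfl⟩ : ∃ m, q = m + 1 := ⟨q - 1, by omega⟩
      exact Groth.L28.CurveCd.subsingleton_H_of_iso
        ((EtCore.pullConstIso ι).app (AddCommGrpCat.of (ULift.{u + 1} (ZMod p)))).symm (m + 1)
        (Groth.L21.TopDeg.subsingleton_const k p (ι ≫ g) (n - 1) hdD m (by omega))
  have h2 : Subsingleton (EtCoh.H Z C (q + 1)) :=
    Groth.L21.TopDeg.subsingleton_const k p g n hdimZ q (by omega)
  have h1 : Subsingleton (EtCoh.H Z ((EtShriek.extZero a).obj (EtCoh.const V.left (ZMod p))) (q + 1)) := by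
    let e : (EtShriek.restrAlong a).obj C ≅ EtCoh.const V.left (ZMod p) :=
      ((Groth.L27.ExtZero.pullRestr a).app C).symm ≪≫
        (EtCore.pullConstIso a).app (AddCommGrpCat.of (ULift.{u + 1} (ZMod p)))
    refine Groth.L28.CurveCd.subsingleton_H_of_iso ((EtShriek.extZero a).mapIso e) (q + 1)
      (subsingleton_of_forall_eq 0 fun x => ?_)
    obtain ⟨y, hy⟩ := Ext.covariant_sequence_exact₁ _ hE x
      (@Subsingleton.elim (EtCoh.H Z C (q + 1)) h2 _ _) rfl
    rw [← hy, @Subsingleton.elim (EtCoh.H Z ((EtCoh.push ι).obj ((EtCoh.pull ι).obj C)) q) h3 y 0]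
    exact Ext.zero_comp (EtCoh.const Z ℤ) _ _ _ _
  obtain ⟨e⟩ := Groth.Agent.S0686.result a ν h haν
  exact Groth.L28.CurveCd.subsingleton_H_of_iso
    ((Groth.L28.ExtShriek.extZeroConstIso V (ZMod p)).symm ≪≫
      (Groth.L27.ExtZero.shriekIso h).app _ ≪≫ e.app _).symm (q + 1)
    (Groth.L27.PBC.subsingleton_H_push_finite ν _ (q + 1) h1)

omit [IsSeparated f] [LocallyOfFiniteType f] [QuasiCompact f] in
include f in
/-- Primary torsion cohomology of a proper scheme in characteristic `p` vanishes above the dimension. -/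
theorem subsingleton_H_primary [IsProper f] (p : ℕ) [Fact p.Prime] [CharP k p] (n : ℕ)
    (hdim : topologicalKrullDim X ≤ n) (F : EtCoh.Ab X)
    (hF : ∀ (U : X.Etale) (s : EtCoh.sect F U) (x : U.left), ∃ (V : X.Etale) (g : V ⟶ U),
      (∃ v : V.left, g.left.base v = x) ∧ ∃ n : ℕ, (p ^ n) • (F.obj.map g.op s) = 0)
    (q : ℕ) (hq : n < q) : Subsingleton (EtCoh.H X F q) := by
  have hp : p.Prime := Fact.out
  haveI : CompactSpace ↥X := QuasiCompact.compactSpace_of_compactSpace f
  haveI : QuasiSeparatedSpace ↥X := quasiSeparatedSpace_of_quasiSeparated f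
  obtain ⟨i, hi⟩ : ∃ i, 2 * n + 1 ≤ q + i := ⟨2 * n + 1, by omega⟩
  induction i generalizing q F with
  | zero => exact Groth.L27.PBC.subsingleton_H_proper f n hdim F (isTorsion_of_pow p hp hF) q (by omega)
  | succ i ih =>
    refine subsingleton_of_atoms' (P := fun r => r = p) q (fun a G m hm => ?_) (fun a => ?_) F
      (exists_killed_pow p hp hF)
    · refine ih G (fun U s x => ⟨U, 𝟙 U, ⟨x, rfl⟩, 1, ?_⟩) (q + 1) (by omega) (by omega)
      obtain ⟨V, hV, r, hr, rfl⟩ := a
      haveI := hm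
      haveI : Mono m.hom := (sheafToPresheaf _ _).map_mono m
      refine (AddCommGrpCat.mono_iff_injective (m.hom.app (op U))).1 inferInstance ?_
      rw [map_nsmul, map_zero, pow_one]
      exact Groth.L28.ExtShriek.killed_of_nsmul_id (Groth.L28.ExtShriek.nsmul_id_extZeroConst V r) U _
    · obtain ⟨V, hV, r, hr, rfl⟩ := a
      haveI := hV
      exact subsingleton_atom_top f r n hdim q hq V

end Groth.L21.AffCd
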